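import Mathlib
import Cfsg.Prelude.Def_Transfer
import Cfsg.Prelude.Def_Local
import Cfsg.Prelude.Def_PLocal
import Cfsg.Agent.Helper2.ZJeBasic
import Cfsg.Agent.Helper11.ZJ
import Cfsg.Agent.Helper11.ActionPStable
import Cfsg.Agent.Helper19.ThompsonNPC
import Cfsg.Agent.Helper51.ReplClosed
import Cfsg.Agent.Helper33.Sections

/-!
# Glauberman's `ZJ`-theorem for the elementary abelian Thompson subgroup (helper2)

`zje_normal`: let `p` be odd and `G` a finite group with no section isomorphic to `SL(2, p)` and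
with `C_G(O_p(G)) ≤ O_p(G)`.  Then `Z(J(P))` is normal in `G` for every Sylow `p`-subgroup `P`,
where `J(P)` is generated by the elementary abelian subgroups of `P` of largest order
(`Cfsg.centerThompsonOf`).  Note that this is the full centre, not only `Ω₁(Z(J(P)))`.

The proof is by induction on `|G|`: the normalizers `N_G(R)`, `O_p(G) ≤ R ⊴ P`, of proper
subgroups satisfy the hypotheses again.
-/

set_option autoImplicit false

namespace Cfsg.Agent.Helper2

open Cfsg
open scoped commutatorElement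

universe u

/-- The subgroup `R = P ∩ L`, `L / C_G(V) = O_p(G / C_G(V))`, attached to a normal `p`-subgroup
`V`: Frattini factorization and `p`-stability. -/
theorem zje_KLfact {G : Type u} [Group G] [Finite G] {p : ℕ} [Fact p.Prime] (hp : p ≠ 2)
    (hno : ¬ Helper33.IsSectionOf G (Matrix.SpecialLinearGroup (Fin 2) (ZMod p)))
    (P : Sylow p G) (V : Subgroup G) [hVn : V.Normal] (hV : IsPGroup p V) :
    ∃ R : Subgroup G, pCore p G ≤ R ∧ R ≤ (P : Subgroup G) ∧
      (P : Subgroup G) ≤ Subgroup.normalizer (R : Set G) ∧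
      (∀ g : G, ∃ c ∈ Subgroup.centralizer (V : Set G),
        ∃ m ∈ Subgroup.normalizer (R : Set G), g = c * m) ∧
      ∀ A : Subgroup G, A ≤ (P : Subgroup G) → ⁅⁅V, A⁆, A⁆ = ⊥ → A ≤ R := by
  set C := Subgroup.centralizer (V : Set G) with hCdef
  have hCn : C.Normal := inferInstance
  set L := (pCore p (G ⧸ C)).comap (QuotientGroup.mk' C) with hLdef
  have hLn : L.Normal := (Helper11.pCore_normal p (G ⧸ C)).comap (QuotientGroup.mk' C)
  refine ⟨(P : Subgroup G) ⊓ L, ?_, inf_le_left, ?_, ?_, ?_⟩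
  · apply le_inf (Helper11.pCore_le_sylow P)
    intro h hh
    rw [hLdef, Subgroup.mem_comap]
    have hn : ((pCore p G).map (QuotientGroup.mk' C)).Normal :=
      Subgroup.Normal.map (Helper11.pCore_normal p G) _ (QuotientGroup.mk'_surjective C)
    have hpg : IsPGroup p ((pCore p G).map (QuotientGroup.mk' C)) :=
      (Helper11.pCore_isPGroup p G).map _
    exact Helper11.le_pCore _ hpg (Subgroup.mem_map_of_mem _ hh)
  · intro s hs
    apply Subgroup.mem_normalizer_fintype
    intro x hx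
    rw [SetLike.mem_coe, Subgroup.mem_inf] at hx ⊢
    exact ⟨(P : Subgroup G).mul_mem ((P : Subgroup G).mul_mem hs hx.1)
      ((P : Subgroup G).inv_mem hs), hLn.conj_mem x hx.2 s⟩
  · have hLRC : ∀ x ∈ L, ∃ r ∈ (P : Subgroup G) ⊓ L, ∃ c ∈ C, x = r * c := by
      intro x hx
      have h1 : pCore p (G ⧸ C) ≤ P.mapSurjective (QuotientGroup.mk'_surjective C) :=
        Helper11.pCore_le_sylow _
      have h2 := h1 (Subgroup.mem_comap.mp hx)
      obtain ⟨s, hs, hsx⟩ := h2
      have hsL : s ∈ L := by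
        rw [hLdef, Subgroup.mem_comap, hsx]
        exact Subgroup.mem_comap.mp hx
      have hc : s⁻¹ * x ∈ C := QuotientGroup.eq.mp hsx
      exact ⟨s, Subgroup.mem_inf.mpr ⟨hs, hsL⟩, s⁻¹ * x, hc, by group⟩
    intro g
    obtain ⟨l, hl, m, hm, rfl⟩ := Helper11.frattini_inf P L g
    obtain ⟨r, hr, c, hc, rfl⟩ := hLRC l hl
    exact ⟨r * c * r⁻¹, hCn.conj_mem c hc r, r * m,
      Subgroup.mul_mem _ (Subgroup.le_normalizer hr) hm, by group⟩
  · intro A hAP hquad a ha
    refine Subgroup.mem_inf.mpr ⟨hAP ha, ?_⟩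
    rw [hLdef, Subgroup.mem_comap]
    have hst := Helper11.isPStableOn_of_no_sl2 hp hno V hV
    apply hst a
    rw [eq_bot_iff, ← hquad]
    exact Subgroup.commutator_mono
      (Subgroup.commutator_mono le_rfl (Subgroup.zpowers_le.mpr ha)) (Subgroup.zpowers_le.mpr ha)

/-- The inductive step: the normalizer of a subgroup `R` with `O_p(G) ≤ R ⊴ P`, if proper,
normalizes `Z(J(P))`. -/
theorem zje_step0 {G : Type u} [Group G] [Finite G] {p : ℕ} [Fact p.Prime]
    (IH : ∀ (K : Type u) [Group K] [Finite K], Nat.card K < Nat.card G →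
      ¬ Helper33.IsSectionOf K (Matrix.SpecialLinearGroup (Fin 2) (ZMod p)) →
      Subgroup.centralizer (pCore p K : Set K) ≤ pCore p K → ∀ Q : Sylow p K,
      (Helper19.JJ p (Q : Subgroup K) ⊓
        Subgroup.centralizer (Helper19.JJ p (Q : Subgroup K) : Set K)).Normal)
    (hno : ¬ Helper33.IsSectionOf G (Matrix.SpecialLinearGroup (Fin 2) (ZMod p)))
    (hc : Subgroup.centralizer (pCore p G : Set G) ≤ pCore p G) (P : Sylow p G)
    (R : Subgroup G) (hHR : pCore p G ≤ R) (hRP : R ≤ (P : Subgroup G))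
    (hPR : (P : Subgroup G) ≤ Subgroup.normalizer (R : Set G))
    (hne : Subgroup.normalizer (R : Set G) ≠ ⊤) :
    Subgroup.normalizer (R : Set G) ≤ Subgroup.normalizer
      ((Helper19.JJ p (P : Subgroup G) ⊓
        Subgroup.centralizer (Helper19.JJ p (P : Subgroup G) : Set G) : Subgroup G) : Set G) := by
  obtain ⟨M, hM⟩ : ∃ M : Subgroup G, M = Subgroup.normalizer (R : Set G) := ⟨_, rfl⟩
  rw [← hM] at hPR hne ⊢
  have hRM : R ≤ M := by rw [hM]; exact Subgroup.le_normalizer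
  have hcard : Nat.card M < Nat.card G := Helper19.card_lt_of_ne_top hne
  have hnoM : ¬ Helper33.IsSectionOf ↥M (Matrix.SpecialLinearGroup (Fin 2) (ZMod p)) :=
    fun h => hno (((Helper33.IsSectionOf.refl G).subgroup M).trans h)
  have hRn : (R.subgroupOf M).Normal := by
    rw [hM]; exact Subgroup.normal_in_normalizer
  have hRp : IsPGroup p (R.subgroupOf M) := (P.isPGroup'.to_le hRP).comap_subtype
  have hRle : R.subgroupOf M ≤ pCore p ↥M := Helper11.le_pCore _ hRp
  have hcM : Subgroup.centralizer (pCore p ↥M : Set ↥M) ≤ pCore p ↥M := by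
    intro x hx
    apply hRle
    rw [Subgroup.mem_subgroupOf]
    apply hHR
    apply hc
    rw [Subgroup.mem_centralizer_iff]
    intro h hh
    have hhM : h ∈ M := hRM (hHR hh)
    have h1 : (⟨h, hhM⟩ : ↥M) ∈ pCore p ↥M := hRle (Subgroup.mem_subgroupOf.mpr (hHR hh))
    have h2 := Subgroup.mem_centralizer_iff.mp hx _ h1
    exact congrArg Subtype.val h2
  have hZM := IH ↥M hcard hnoM hcM (P.subtype hPR)
  rw [Sylow.coe_subtype] at hZM
  have hJ : Helper19.JJ p (P : Subgroup G) =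
      (Helper19.JJ p ((P : Subgroup G).subgroupOf M)).map M.subtype := by
    have h1 := Helper19.JJ_map (p := p) (X := (P : Subgroup G).subgroupOf M) M.subtype
      (M.subtype_injective.injOn)
    rw [Subgroup.map_subgroupOf_eq_of_le hPR] at h1
    exact h1
  rw [hJ, ← zje_center_map M.subtype M.subtype_injective]
  intro m hm
  apply Subgroup.mem_normalizer_fintype
  rintro _ ⟨z, hz, rfl⟩
  exact ⟨⟨m, hm⟩ * z * ⟨m, hm⟩⁻¹, hZM.conj_mem z hz ⟨m, hm⟩, rfl⟩

/-- The main argument, with the induction hypothesis as an assumption. -/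
theorem zje_main {G : Type u} [Group G] [Finite G] {p : ℕ} [Fact p.Prime] (hp : p ≠ 2)
    (IH : ∀ (K : Type u) [Group K] [Finite K], Nat.card K < Nat.card G →
      ¬ Helper33.IsSectionOf K (Matrix.SpecialLinearGroup (Fin 2) (ZMod p)) →
      Subgroup.centralizer (pCore p K : Set K) ≤ pCore p K → ∀ Q : Sylow p K,
      (Helper19.JJ p (Q : Subgroup K) ⊓
        Subgroup.centralizer (Helper19.JJ p (Q : Subgroup K) : Set K)).Normal)
    (hno : ¬ Helper33.IsSectionOf G (Matrix.SpecialLinearGroup (Fin 2) (ZMod p)))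
    (hc : Subgroup.centralizer (pCore p G : Set G) ≤ pCore p G) (P : Sylow p G) :
    (Helper19.JJ p (P : Subgroup G) ⊓
      Subgroup.centralizer (Helper19.JJ p (P : Subgroup G) : Set G)).Normal := by
  classical
  obtain ⟨H, hHdef⟩ : ∃ H : Subgroup G, H = pCore p G := ⟨_, rfl⟩
  obtain ⟨J, hJdef⟩ : ∃ J : Subgroup G, J = Helper19.JJ p (P : Subgroup G) := ⟨_, rfl⟩
  obtain ⟨Z, hZdef⟩ : ∃ Z : Subgroup G, Z = J ⊓ Subgroup.centralizer (J : Set G) := ⟨_, rfl⟩
  rw [← hJdef, ← hZdef]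
  have hHn : H.Normal := by rw [hHdef]; exact Helper11.pCore_normal p G
  have hHp : IsPGroup p H := by rw [hHdef]; exact Helper11.pCore_isPGroup p G
  have hHP : H ≤ (P : Subgroup G) := by rw [hHdef]; exact Helper11.pCore_le_sylow P
  have hcH : Subgroup.centralizer (H : Set G) ≤ H := by rw [hHdef]; exact hc
  have hJP : J ≤ (P : Subgroup G) := by rw [hJdef]; exact Helper19.JJ_le p _
  have hPJ : (P : Subgroup G) ≤ Subgroup.normalizer (J : Set G) := by
    rw [hJdef]; exact Subgroup.le_normalizer.trans (Helper19.normalizer_le_normalizer_JJ p _)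
  have hJZ : Subgroup.normalizer (J : Set G) ≤ Subgroup.normalizer (Z : Set G) := by
    rw [hZdef]; exact Helper19.normalizer_le_normalizer_center J
  have hPZ : (P : Subgroup G) ≤ Subgroup.normalizer (Z : Set G) := hPJ.trans hJZ
  have hZJ : Z ≤ J := by rw [hZdef]; exact inf_le_left
  have hZc : Z ≤ Subgroup.centralizer (J : Set G) := by rw [hZdef]; exact inf_le_right
  have hZP : Z ≤ (P : Subgroup G) := hZJ.trans hJP
  have hZcomm : ∀ a ∈ Z, ∀ b ∈ Z, a * b = b * a := fun a ha b hb =>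
    Subgroup.mem_centralizer_iff.mp (hZc hb) a (hZJ ha)
  have hZconj : ∀ s ∈ (P : Subgroup G), ∀ z ∈ Z, s * z * s⁻¹ ∈ Z := fun s hs z hz =>
    (Subgroup.mem_normalizer_iff.mp (hPZ hs) z).mp hz
  by_contra hZ
  have hZtop : Subgroup.normalizer (Z : Set G) ≠ ⊤ :=
    fun h => hZ (Subgroup.normalizer_eq_top_iff.mp h)
  have hN : ∀ R : Subgroup G, H ≤ R → R ≤ (P : Subgroup G) →
      (P : Subgroup G) ≤ Subgroup.normalizer (R : Set G) →
      Subgroup.normalizer (R : Set G) ≠ ⊤ →
      Subgroup.normalizer (R : Set G) ≤ Subgroup.normalizer (Z : Set G) := by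
    intro R hHR hRP hPR hne
    have h := zje_step0 IH hno hc P R (by rw [← hHdef]; exact hHR) hRP hPR hne
    rw [← hJdef, ← hZdef] at h
    exact h
  have hKL : ∀ (V : Subgroup G) [V.Normal], IsPGroup p V →
      (∀ g : G, ∃ c ∈ Subgroup.centralizer (V : Set G),
        ∃ m ∈ Subgroup.normalizer (Z : Set G), g = c * m) ∨
      (∀ A : Subgroup G, A ≤ (P : Subgroup G) → ⁅⁅V, A⁆, A⁆ = ⊥ → A ≤ H) := by
    intro V _ hV
    obtain ⟨R, hHR, hRP, hPR, hfact, hquadR⟩ := zje_KLfact hp hno P V hV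
    rw [← hHdef] at hHR
    by_cases hRtop : Subgroup.normalizer (R : Set G) = ⊤
    · right
      intro A hAP hquad
      have hRn : R.Normal := Subgroup.normalizer_eq_top_iff.mp hRtop
      have hRH : R ≤ H := by rw [hHdef]; exact Helper11.le_pCore R (P.isPGroup'.to_le hRP)
      exact (hquadR A hAP hquad).trans hRH
    · left
      intro g
      obtain ⟨c, hc', m, hm, rfl⟩ := hfact g
      exact ⟨c, hc', m, hN R hHR hRP hPR hRtop hm, rfl⟩
  have hKL' : ∀ (V : Subgroup G) [V.Normal], IsPGroup p V →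
      Subgroup.centralizer (V : Set G) ≤ Subgroup.normalizer (Z : Set G) →
      ∀ A : Subgroup G, A ≤ (P : Subgroup G) → ⁅⁅V, A⁆, A⁆ = ⊥ → A ≤ H := by
    intro V _ hV hCV
    rcases hKL V hV with hfact | h
    · exfalso
      apply hZtop
      rw [eq_top_iff]
      intro g _
      obtain ⟨c, hc', m, hm, rfl⟩ := hfact g
      exact Subgroup.mul_mem _ (hCV hc') hm
    · exact h
  -- Step 1: `Z ≤ O_p(G)`
  have hZH : Z ≤ H :=
    hKL' H hHp (hcH.trans (hHP.trans hPZ)) Z hZP
      (zje_quad_of_normalizes H Z (hHP.trans hPZ) hZcomm)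
  -- Step 2: a normal `p`-subgroup `B` of least order with `Z ⊓ B` not normal
  obtain ⟨B, ⟨hBn, hBp, hBnot⟩, hBmin⟩ := Set.exists_min_image
    {B : Subgroup G | B.Normal ∧ IsPGroup p B ∧ ¬ (Z ⊓ B).Normal}
    (fun B => Nat.card B) (Set.toFinite _) ⟨H, hHn, hHp, by rwa [inf_eq_left.mpr hZH]⟩
  have hBmin' : ∀ B' : Subgroup G, B'.Normal → IsPGroup p B' → Nat.card B' < Nat.card B →
      (Z ⊓ B').Normal := by
    intro B' h1 h2 h3
    by_contra h4
    have := hBmin B' ⟨h1, h2, h4⟩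
    omega
  have hBP : B ≤ (P : Subgroup G) := hBp.le_sylow_of_normal P
  obtain ⟨L₀, hL₀def⟩ : ∃ L₀ : Subgroup G,
      L₀ = Subgroup.normalClosure ((Z ⊓ B : Subgroup G) : Set G) := ⟨_, rfl⟩
  have hL₀B : L₀ ≤ B := by
    rw [hL₀def]; exact Subgroup.normalClosure_le_normal (fun x hx => hx.2)
  have hL₀n : L₀.Normal := by rw [hL₀def]; exact Subgroup.normalClosure_normal
  have hZL₀ : Z ⊓ L₀ = Z ⊓ B :=
    le_antisymm (inf_le_inf_left Z hL₀B)
      (le_inf inf_le_left (by rw [hL₀def]; exact Subgroup.le_normalClosure))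
  have hL₀eq : L₀ = B := by
    by_contra hne
    have hcardlt : Nat.card L₀ < Nat.card B := by
      by_contra hge
      push Not at hge
      exact hne (Subgroup.eq_of_le_of_card_ge hL₀B hge)
    have := hBmin' L₀ hL₀n (hBp.to_le hL₀B) hcardlt
    rw [hZL₀] at this
    exact hBnot this
  have hBbot : B ≠ ⊥ := by
    intro hB
    apply hBnot
    rw [hB, inf_bot_eq]
    infer_instance
  have hB'n : (⁅B, B⁆ : Subgroup G).Normal := inferInstance
  have hB'B : ⁅B, B⁆ ≤ B := Subgroup.commutator_le_right B B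
  have hB'card : Nat.card (⁅B, B⁆ : Subgroup G) < Nat.card B := by
    by_contra hge
    push Not at hge
    exact Helper11.commutator_ne_self_of_isPGroup B hBp hBbot
      (Subgroup.eq_of_le_of_card_ge hB'B hge)
  have hN₀ : (Z ⊓ ⁅B, B⁆).Normal := hBmin' ⁅B, B⁆ hB'n (hBp.to_le hB'B) hB'card
  have hB'Z : ⁅B, B⁆ ≤ Z := by
    have key : ∀ w ∈ ((Z ⊓ B : Subgroup G) : Set G), ∀ y ∈ B, ⁅w, y⁆ ∈ Z ⊓ ⁅B, B⁆ := by
      intro w hw y hy
      rw [Subgroup.mem_inf]
      constructor
      · have h1 := hZconj y (hBP hy) w⁻¹ (Z.inv_mem hw.1)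
        have e : ⁅w, y⁆ = w * (y * w⁻¹ * y⁻¹) := by
          simp only [commutatorElement_def]; group
        rw [e]
        exact Z.mul_mem hw.1 h1
      · exact Subgroup.commutator_mem_commutator hw.2 hy
    have h2 := Helper11.commutator_mem_of_mem_normalClosure _ B (Z ⊓ ⁅B, B⁆) key
    have h3 : ⁅B, B⁆ ≤ Z ⊓ ⁅B, B⁆ := by
      rw [Subgroup.commutator_le]
      intro x hx y hy
      apply h2 x _ y hy
      rw [← hL₀def, hL₀eq]
      exact hx
    exact h3.trans inf_le_left
  -- subgroups of `P` acting quadratically on `B` lie in `O_p(G)`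
  have hquadB : ∀ A : Subgroup G, A ≤ (P : Subgroup G) → ⁅⁅B, A⁆, A⁆ = ⊥ → A ≤ H := by
    rcases hKL B hBp with hfact | h
    · exfalso
      apply hBnot
      constructor
      intro z hz g
      obtain ⟨c, hc', m, hm, rfl⟩ := hfact g
      rw [Subgroup.mem_inf] at hz
      have h1 : m * z * m⁻¹ ∈ Z ⊓ B :=
        Subgroup.mem_inf.mpr ⟨(Subgroup.mem_normalizer_iff.mp hm z).mp hz.1,
          hBn.conj_mem z hz.2 m⟩
      have h2 : m * z * m⁻¹ * c = c * (m * z * m⁻¹) :=
        (Subgroup.mem_centralizer_iff.mp hc') _ (Subgroup.mem_inf.mp h1).2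
      have e : c * m * z * (c * m)⁻¹ = c * (m * z * m⁻¹) * c⁻¹ := by group
      rw [e, ← h2]
      have e2 : m * z * m⁻¹ * c * c⁻¹ = m * z * m⁻¹ := by group
      rw [e2]
      exact h1
    · exact h
  -- Step 3: a largest elementary abelian subgroup of `P` inside `O_p(G)`
  obtain ⟨A₁, hA₁⟩ := Helper19.exists_maxEA p (P : Subgroup G)
  have hA₁J : A₁ ≤ J := by rw [hJdef]; exact le_sSup hA₁
  have hexA : ∃ A : Subgroup G, Helper19.MaxEA p (P : Subgroup G) A ∧ A ≤ H := by
    have hne : ({T : Subgroup G | T ≤ (P : Subgroup G) ∧ IsMulCommutative T ∧ ⁅B, B⁆ ≤ T ∧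
        Nat.card A₁ ≤ Nat.card (omegaOne p T)} : Set (Subgroup G)).Nonempty := by
      refine ⟨A₁ ⊔ ⁅B, B⁆, sup_le hA₁.1 (hB'B.trans hBP), ?_, le_sup_right, ?_⟩
      · exact isMulCommutative_iff_of_setLike.mpr (zje_comm_sup A₁ ⁅B, B⁆ hA₁.2.1.1
          (fun a ha b hb => hZcomm a (hB'Z ha) b (hB'Z hb))
          (fun a ha b hb => (Subgroup.mem_centralizer_iff.mp (hZc (hB'Z hb)) a (hA₁J ha))))
      · apply Subgroup.card_le_of_le
        intro a ha
        exact Subgroup.subset_closure ⟨(le_sup_left : A₁ ≤ A₁ ⊔ ⁅B, B⁆) ha, hA₁.2.1.2 a ha⟩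
    obtain ⟨T, ⟨hTP, hTc, hB'T, hTcard⟩, hTmax⟩ := Set.exists_max_image _
      (fun T : Subgroup G => Nat.card ↥(T ⊓ B)) (Set.toFinite _) hne
    have hTcomm := isMulCommutative_iff_of_setLike.mp hTc
    have hPB : (P : Subgroup G) ≤ Subgroup.normalizer (B : Set G) := by
      rw [Subgroup.normalizer_eq_top_iff.mpr hBn]; exact le_top
    have hBNT : B ≤ Subgroup.normalizer (T : Set G) := by
      by_contra hnot
      obtain ⟨T', hT'P, hT'c, -, hlt, -, -, -, hom⟩ :=
        Helper51.replacement_in_closed hp (P : Subgroup G) B T P.isPGroup' hBP hPB hTP hTc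
          hB'T hnot
      have hT'mem : T' ∈ ({T : Subgroup G | T ≤ (P : Subgroup G) ∧ IsMulCommutative T ∧
          ⁅B, B⁆ ≤ T ∧ Nat.card A₁ ≤ Nat.card (omegaOne p T)} : Set (Subgroup G)) :=
        ⟨hT'P, hT'c, (le_inf hB'T hB'B).trans (hlt.le.trans inf_le_left), hTcard.trans hom⟩
      have hle := hTmax T' hT'mem
      exact hlt.ne (Subgroup.eq_of_le_of_card_ge hlt.le hle)
    have hTH : T ≤ H := hquadB T hTP (zje_quad_of_normalizes B T hBNT hTcomm)
    have hom : ∀ x, x ∈ omegaOne p T ↔ x ∈ T ∧ x ^ p = 1 :=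
      Helper51.mem_omegaOne_iff_of_comm p T hTc
    have homT : omegaOne p T ≤ T := fun x hx => ((hom x).mp hx).1
    refine ⟨omegaOne p T, ⟨homT.trans hTP, ⟨?_, ?_⟩, ?_⟩, homT.trans hTH⟩
    · intro a ha b hb
      exact hTcomm a (homT ha) b (homT hb)
    · intro a ha
      exact ((hom a).mp ha).2
    · intro B' hB' hEA
      exact (hA₁.2.2 B' hB' hEA).trans hTcard
  obtain ⟨A, hA, hAH⟩ := hexA
  have hMax : ∀ A', Helper19.MaxEA p H A' → Helper19.MaxEA p (P : Subgroup G) A' :=
    fun A' hA' => ⟨hA'.1.trans hHP, hA'.2.1, fun B' hB' hEA =>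
      (hA.2.2 B' hB' hEA).trans (hA'.2.2 A hAH hA.2.1)⟩
  have hJH : Helper19.JJ p H ≤ J := by
    rw [hJdef]
    exact sSup_le fun A' hA' => le_sSup (hMax A' hA')
  have hHtop : Subgroup.normalizer (H : Set G) = ⊤ := Subgroup.normalizer_eq_top_iff.mpr hHn
  have hJHn : (Helper19.JJ p H).Normal := by
    rw [← Subgroup.normalizer_eq_top_iff, eq_top_iff, ← hHtop]
    exact Helper19.normalizer_le_normalizer_JJ p H
  -- Step 4: the normal subgroups `D = C_H(J(H))` and `V = Ω₁(D)`
  obtain ⟨D, hDdef⟩ : ∃ D : Subgroup G,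
      D = H ⊓ Subgroup.centralizer (Helper19.JJ p H : Set G) := ⟨_, rfl⟩
  have hZD : Z ≤ D := by
    rw [hDdef]
    exact le_inf hZH (hZc.trans (Subgroup.centralizer_le hJH))
  have hDn : D.Normal := by
    rw [hDdef]
    have : (Subgroup.centralizer (Helper19.JJ p H : Set G)).Normal := inferInstance
    infer_instance
  have hDH : D ≤ H := by rw [hDdef]; exact inf_le_left
  obtain ⟨V, hVdef⟩ : ∃ V : Subgroup G, V = sInf {A' | Helper19.MaxEA p H A'} := ⟨_, rfl⟩
  obtain ⟨A₀, hA₀⟩ := Helper19.exists_maxEA p H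
  have hVA : ∀ A', Helper19.MaxEA p H A' → V ≤ A' := fun A' hA' => by
    rw [hVdef]; exact sInf_le hA'
  have hVEA : Helper19.EA p V := hA₀.2.1.mono (hVA A₀ hA₀)
  have hVp : IsPGroup p V := hVEA.isPGroup
  have hVH : V ≤ H := (hVA A₀ hA₀).trans hA₀.1
  have hVn : V.Normal := by
    constructor
    intro v hv g
    rw [hVdef, Subgroup.mem_sInf]
    intro A' hA'
    have hHmap : H.map (MulAut.conj g⁻¹).toMonoidHom = H :=
      Helper11.map_conj_eq_of_mem_normalizer H g⁻¹ (by rw [hHtop]; exact Subgroup.mem_top _)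
    have h1 : Helper19.MaxEA p (H.map (MulAut.conj g⁻¹).toMonoidHom)
        (A'.map (MulAut.conj g⁻¹).toMonoidHom) :=
      (Helper19.maxEA_map_iff (MulAut.conj g⁻¹).toMonoidHom
        ((MulAut.conj g⁻¹).injective.injOn) _).mpr ⟨A', hA', rfl⟩
    rw [hHmap] at h1
    obtain ⟨a, ha, hav⟩ := hVA _ h1 hv
    have e : g * v * g⁻¹ = a := by
      rw [← hav]
      simp [MulAut.conj_apply, mul_assoc]
    rw [e]
    exact ha
  have hDV : ∀ d ∈ D, d ^ p = 1 → d ∈ V := by
    intro d hd hdp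
    rw [hVdef, Subgroup.mem_sInf]
    intro A' hA'
    rw [hDdef, Subgroup.mem_inf] at hd
    have hA'J : A' ≤ Helper19.JJ p H := le_sSup hA'
    have hcomm : ∀ a ∈ A', ∀ b ∈ Subgroup.zpowers d, a * b = b * a := by
      intro a ha b hb
      have hda : Commute a d := Subgroup.mem_centralizer_iff.mp hd.2 a (hA'J ha)
      obtain ⟨k, rfl⟩ := Subgroup.mem_zpowers_iff.mp hb
      exact (Commute.zpow_right hda k).eq
    have hEA : Helper19.EA p (A' ⊔ Subgroup.zpowers d) :=
      zje_EA_sup A' _ hA'.2.1 (Helper19.EA_zpowers hdp) hcomm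
    have hle : A' ⊔ Subgroup.zpowers d ≤ H := sup_le hA'.1 (Subgroup.zpowers_le.mpr hd.1)
    have hcard := hA'.2.2 _ hle hEA
    have heq : A' = A' ⊔ Subgroup.zpowers d := Subgroup.eq_of_le_of_card_ge le_sup_left hcard
    rw [heq]
    exact (le_sup_right : Subgroup.zpowers d ≤ A' ⊔ Subgroup.zpowers d) (Subgroup.mem_zpowers d)
  have hCV : Subgroup.centralizer (V : Set G) ≤ Subgroup.normalizer (Z : Set G) := by
    have hCn : (Subgroup.centralizer (V : Set G)).Normal := inferInstance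
    apply zje_le_of_sylow_inf_le P
    · exact inf_le_left.trans hPZ
    · intro x hxC hxo
      have hxD : x ∈ Subgroup.normalizer (D : Set G) := by
        rw [Subgroup.normalizer_eq_top_iff.mpr hDn]; exact Subgroup.mem_top _
      have hcent := zje_omega_lemma hp x hxo (Nat.card D) D le_rfl (hHp.to_le hDH) hxD
        (fun d hd hdp => by
          have := Subgroup.mem_centralizer_iff.mp hxC d (hDV d hd hdp)
          rw [← this]; group)
      apply Subgroup.mem_normalizer_fintype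
      intro z hz
      rw [hcent z (hZD hz)]
      exact hz
  have hquadV := hKL' V hVp hCV
  have hall : ∀ A', Helper19.MaxEA p (P : Subgroup G) A' → A' ≤ H := by
    by_contra hcon
    push Not at hcon
    obtain ⟨A₂, ⟨hA₂, hA₂H⟩, hA₂max⟩ := Set.exists_max_image
      {A' : Subgroup G | Helper19.MaxEA p (P : Subgroup G) A' ∧ ¬ A' ≤ H}
      (fun A' => Nat.card ↥(A' ⊓ V)) (Set.toFinite _) hcon
    have hVN : ¬ V ≤ Subgroup.normalizer (A₂ : Set G) := by
      intro h
      exact hA₂H (hquadV A₂ hA₂.1 (zje_quad_of_normalizes V A₂ h hA₂.2.1.1))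
    obtain ⟨A₃, hA₃, hlt, hA₃N⟩ := Helper19.replacement_step (P : Subgroup G) A₂ V
      P.isPGroup' hA₂ hVEA (hVH.trans hHP) hVN
    have hA₃H : A₃ ≤ H := by
      by_contra h
      have := hA₂max A₃ ⟨hA₃, h⟩
      omega
    have hA₃' : Helper19.MaxEA p H A₃ :=
      ⟨hA₃H, hA₃.2.1, fun B' hB' hEA => hA₃.2.2 B' (hB'.trans hHP) hEA⟩
    exact hVN ((hVA A₃ hA₃').trans hA₃N)
  have hJeq : J = Helper19.JJ p H := by
    rw [hJdef]; exact Helper19.JJ_eq_of_forall_le hHP hall
  have hJtop : Subgroup.normalizer (J : Set G) = ⊤ := by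
    rw [hJeq]; exact Subgroup.normalizer_eq_top_iff.mpr hJHn
  rw [hJtop] at hJZ
  exact hZtop (eq_top_iff.mpr hJZ)

/-- Induction on the order of the group. -/
theorem zje_normal_JJ {p : ℕ} [Fact p.Prime] (hp : p ≠ 2) :
    ∀ (n : ℕ) (G : Type u) [Group G] [Finite G], Nat.card G = n →
      ¬ Helper33.IsSectionOf G (Matrix.SpecialLinearGroup (Fin 2) (ZMod p)) →
      Subgroup.centralizer (pCore p G : Set G) ≤ pCore p G → ∀ P : Sylow p G,
      (Helper19.JJ p (P : Subgroup G) ⊓
        Subgroup.centralizer (Helper19.JJ p (P : Subgroup G) : Set G)).Normal := by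
  intro n
  induction n using Nat.strong_induction_on with
  | _ n IH =>
    intro G _ _ hn hno hc P
    exact zje_main hp (fun K _ _ hK => IH (Nat.card K) (by rw [← hn]; exact hK) K rfl) hno hc P

/-- **Glauberman's `ZJ`-theorem for the elementary abelian Thompson subgroup**: for odd `p`, if
`G` has no section isomorphic to `SL(2, p)` and `C_G(O_p(G)) ≤ O_p(G)`, then `Z(J(P))` is normal
in `G` for every Sylow `p`-subgroup `P`. -/
theorem zje_normal {G : Type u} [Group G] [Finite G] {p : ℕ} [Fact p.Prime] (hp : p ≠ 2)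
    (hno : ¬ Helper33.IsSectionOf G (Matrix.SpecialLinearGroup (Fin 2) (ZMod p)))
    (hc : Subgroup.centralizer (pCore p G : Set G) ≤ pCore p G) (P : Sylow p G) :
    (Cfsg.centerThompsonOf p (P : Subgroup G)).Normal := by
  rw [zje_centerThompsonOf_eq]
  exact zje_normal_JJ hp (Nat.card G) G rfl hno hc P

end Cfsg.Agent.Helper2
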