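/-
helper2: CALL S1428 (B&G Theorem 13.4), small auxiliary lemmas for the swap pieces SW4 and SW6.
-/
import Cfsg.Agent.Helper2.BG13Defs
import Cfsg.Agent.Helper23.Uniq
import Cfsg.Agent.S1405

set_option autoImplicit false

namespace Cfsg.Agent.Helper2

open Cfsg Subgroup Cfsg.Agent.Helper23

universe u

variable {G : Type u} [Group G]

/-- Centralizing is symmetric. -/
theorem bg13_cent_symm {A B : Subgroup G} (h : A ≤ centralizer (B : Set G)) :
    B ≤ centralizer (A : Set G) := by
  intro x hx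
  rw [mem_centralizer_iff]
  intro y hy
  exact ((mem_centralizer_iff.mp (h hy)) x hx).symm

/-- Non-conjugacy is symmetric. -/
theorem bg13_nc_symm {M H : Subgroup G}
    (h : ∀ g : G, H ≠ M.map (MulAut.conj g).toMonoidHom) :
    ∀ g : G, M ≠ H.map (MulAut.conj g).toMonoidHom := by
  intro g e
  apply h g⁻¹
  ext x
  constructor
  · intro hx
    refine ⟨g * x * g⁻¹, ?_, ?_⟩
    · rw [e]
      exact ⟨x, hx, by simp [MulAut.conj_apply]⟩
    · simp only [MulEquiv.coe_toMonoidHom, MulAut.conj_apply]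
      group
  · rintro ⟨y, hy, rfl⟩
    rw [e] at hy
    obtain ⟨z, hz, rfl⟩ := hy
    have : (MulAut.conj g⁻¹).toMonoidHom ((MulAut.conj g).toMonoidHom z) = z := by
      simp only [MulEquiv.coe_toMonoidHom, MulAut.conj_apply]
      group
    rw [this]
    exact hz

/-- Non-conjugate subgroups are different. -/
theorem bg13_ne_of_nc {M H : Subgroup G}
    (h : ∀ g : G, H ≠ M.map (MulAut.conj g).toMonoidHom) : M ≠ H := by
  intro e
  apply h 1
  rw [← e]
  ext x
  constructor
  · intro hx
    exact ⟨x, hx, by simp⟩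
  · rintro ⟨y, hy, rfl⟩
    simpa using hy

/-- Elements commuting with `R` normalize `C_G(R)`. -/
theorem bg13_le_normalizer_centralizer {P R : Subgroup G} (h : P ≤ centralizer (R : Set G)) :
    P ≤ normalizer ((centralizer (R : Set G) : Subgroup G) : Set G) := by
  intro x hx
  have hx' := h hx
  rw [mem_centralizer_iff] at hx'
  rw [mem_normalizer_iff]
  intro y
  constructor
  · intro hy
    rw [mem_centralizer_iff] at hy ⊢
    intro z hz
    have e1 := hx' z hz
    have e2 := hy z hz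
    have e3 : x⁻¹ * z = z * x⁻¹ := by
      rw [eq_mul_inv_iff_mul_eq, mul_assoc, e1, ← mul_assoc, inv_mul_cancel, one_mul]
    calc z * (x * y * x⁻¹) = (z * x) * y * x⁻¹ := by group
      _ = (x * z) * y * x⁻¹ := by rw [e1]
      _ = x * (z * y) * x⁻¹ := by group
      _ = x * (y * z) * x⁻¹ := by rw [e2]
      _ = x * y * (z * x⁻¹) := by group
      _ = x * y * (x⁻¹ * z) := by rw [e3]
      _ = x * y * x⁻¹ * z := by group
  · intro hy
    rw [mem_centralizer_iff] at hy ⊢
    intro z hz
    have e1 := hx' z hz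
    have e2 := hy z hz
    have e3 : x⁻¹ * z = z * x⁻¹ := by
      rw [eq_mul_inv_iff_mul_eq, mul_assoc, e1, ← mul_assoc, inv_mul_cancel, one_mul]
    have e4 : x⁻¹ * (z * (x * y * x⁻¹)) * x = x⁻¹ * ((x * y * x⁻¹) * z) * x := by rw [e2]
    calc z * y = x⁻¹ * (x * z) * y := by group
      _ = x⁻¹ * (z * x) * y := by rw [e1]
      _ = x⁻¹ * (z * (x * y * x⁻¹)) * x := by group
      _ = x⁻¹ * ((x * y * x⁻¹) * z) * x := e4
      _ = y * (x⁻¹ * z) * x := by group
      _ = y * (z * x⁻¹) * x := by rw [e3]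
      _ = y * z := by group

variable [Finite G]

/-- `M_β ≤ M_α`. -/
theorem bg13_betaCore_le_alphaCore (M : Subgroup G) :
    piCoreOf (beta M) M ≤ alphaCore M := by
  apply le_piCoreOf (piCoreOf_le _ _) (le_normalizer_piCoreOf _ _)
  intro s hs hsd
  exact (mem_of_dvd_card_piCoreOf (beta M) M hs hsd).1

/-- `M_β ≤ M_σ`. -/
theorem bg13_betaCore_le_sigmaCore (hG : IsMinSimpleOddOrder G) {M : Subgroup G}
    (hM : IsCoatom M) : piCoreOf (beta M) M ≤ sigmaCore M :=
  (bg13_betaCore_le_alphaCore M).trans (Cfsg.Agent.S1405.result hG M hM).2.2.1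

end Cfsg.Agent.Helper2
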