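/-
helper2: CALL S1428 PIECE SW4 (`M_β ∩ H = 1`, step (S3) of insight 3428).
-/
import Cfsg.Agent.Helper2.BG13Aux
import Cfsg.Agent.Helper54.BG13Gen
import Cfsg.Agent.Helper68.BG13CTX
import Cfsg.Agent.Helper68.BG134Cop
import Cfsg.Agent.Helper24.BG13A1
import Cfsg.Agent.Helper24.BG1217
import Cfsg.Agent.Helper22.BG12b
import Cfsg.Agent.Helper22.BG13SW2
import Cfsg.Agent.Helper35.CoprimeSylow
import Cfsg.Agent.Helper35.CoprimeAbelian
import Cfsg.Agent.Helper35.CoprimeGen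
import Cfsg.Agent.S1403
import Cfsg.Agent.S1422

set_option autoImplicit false

namespace Cfsg.Agent.Helper2

open Cfsg Subgroup Cfsg.Agent.Helper23 Cfsg.Agent.Helper35

universe u

variable {G : Type u} [Group G] [Finite G]

/-- PIECE SW4: `M_β ∩ H = 1`. -/
theorem bg13_sw_B (hG : IsMinSimpleOddOrder G) (hA : PropA G) (hC : Claim1218 G)
    {M E P R H Q : Subgroup G} {p r q : ℕ} (c : T1Ctx M E P R H Q p r q)
    (hu : normalizer (Q : Set G) ≤ H ∧
      ∀ L : Subgroup G, IsCoatom L → normalizer (Q : Set G) ≤ L → L = H)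
    (hqH : q ∈ sigma H) (hrM : r ∈ tau1 M) :
    piCoreOf (beta M) M ⊓ H = ⊥ := by
  have hU : Cfsg.Agent.Helper22.BGUniq G := fun K hK h1 h2 => Cfsg.Agent.S1403.result hG K hK h1 h2
  have hPM : P ≤ M := c.hPE.trans c.hE.1
  have hRM : R ≤ M := c.hRE.trans c.hE.1
  obtain ⟨hnc, -, hK⟩ := Cfsg.Agent.Helper68.bg13_ctx hG c.hM c.hp hPM c.hP c.hH c.hNP
  have hnc' := bg13_nc_symm hnc
  have hMH : M ≠ H := bg13_ne_of_nc hnc
  have hCN : centralizer (P : Set G) ≤ H := (centralizer_le_normalizer _).trans c.hNP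
  have hRH : R ≤ H := c.hRP.trans hCN
  have hβα := bg13_betaCore_le_alphaCore M
  have hβσ := bg13_betaCore_le_sigmaCore hG c.hM
  have hβM : piCoreOf (beta M) M ≤ M := piCoreOf_le _ _
  obtain ⟨B, hBdef⟩ : ∃ B : Subgroup G, B = piCoreOf (beta M) M ⊓ H := ⟨_, rfl⟩
  rw [← hBdef]
  have hBβ : B ≤ piCoreOf (beta M) M := hBdef ▸ inf_le_left
  have hBH : B ≤ H := hBdef ▸ inf_le_right
  have hBM : B ≤ M := hBβ.trans hβM
  -- `R` normalizes `B`, and `r ∤ |B|`
  have hRB : R ≤ normalizer (B : Set G) := by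
    rw [hBdef]
    exact (le_inf (hRM.trans (le_normalizer_piCoreOf _ _)) (hRH.trans le_normalizer)).trans
      Subgroup.inf_normalizer_le_normalizer_inf
  have hrB : ¬ r ∣ Nat.card B := by
    intro hd
    exact hrM.2.1 (mem_of_dvd_card_piCoreOf (sigma M) M c.hr
      (hd.trans (Subgroup.card_dvd_of_le (hBβ.trans hβσ))))
  have hBprime : ∀ s : ℕ, s.Prime → s ∣ Nat.card B → s ∈ beta M := fun s hs hd =>
    mem_of_dvd_card_piCoreOf (beta M) M hs (hd.trans (Subgroup.card_dvd_of_le hBβ))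
  -- (A) `R` centralizes `B`
  have hRC : R ≤ centralizer (B : Set G) := by
    by_contra hne
    obtain ⟨s, hs, hsB, Bs, hBs, hRBs, hnBs⟩ :=
      Cfsg.Agent.Helper68.bg134_cop1 c.hr c.hR hRB hrB hne
    have hsβ := hBprime s hs hsB
    haveI := Fact.mk hs
    have hBsB : Bs ≤ B := hBs.1
    have hBss : IsPGroup s Bs := hBs.2.1
    have hab : ∀ x ∈ Bs, ∀ y ∈ Bs, x * y = y * x := by
      by_contra hna
      have hna' : ¬ IsMulCommutative Bs := by
        intro hc
        apply hna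
        intro x hx y hy
        exact congrArg Subtype.val (hc.is_comm.comm ⟨x, hx⟩ ⟨y, hy⟩)
      obtain ⟨L, -, hLu⟩ := Cfsg.Agent.S1422.result hG s Bs hBss hna'
      exact hMH ((hLu M ⟨c.hM, hBsB.trans hBM⟩).trans (hLu H ⟨c.hH, hBsB.trans hBH⟩).symm)
    have hcop : (Nat.card R).Coprime (Nat.card Bs) := by
      rw [c.hR, Nat.Prime.coprime_iff_not_dvd c.hr]
      intro hd
      exact hrB (hd.trans (Subgroup.card_dvd_of_le hBsB))
    have hQ'C := commutator_inf_centralizer_eq_bot_of_comm hRBs hcop hab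
    have hQ'le : (⁅Bs, R⁆ : Subgroup G) ≤ Bs := commutator_le_of_le_normalizer hRBs
    have hQ'1 : (⁅Bs, R⁆ : Subgroup G) ≠ ⊥ := by
      intro e
      exact hnBs (bg13_cent_symm (Subgroup.commutator_eq_bot_iff_le_centralizer.mp e))
    have hRQ' : R ≤ normalizer ((⁅Bs, R⁆ : Subgroup G) : Set G) :=
      le_normalizer_commutator' hRBs le_normalizer
    have hQ'K : (⁅Bs, R⁆ : Subgroup G) ≤ sigmaCore M ⊓ centralizer (P : Set G) := by
      rw [← hK]
      exact hQ'le.trans (le_inf (hBsB.trans (hBβ.trans hβσ)) (hBsB.trans hBH))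
    have c2 : T1Ctx M E P R H ⁅Bs, R⁆ p r s :=
      { hM := c.hM, hE := c.hE, hp := c.hp, hPE := c.hPE, hP := c.hP, hRE := c.hRE,
        hRP := c.hRP, hr := c.hr, hR := c.hR, hrp := c.hrp, hH := c.hH, hNP := c.hNP, hq := hs,
        hQq := hBss.to_le hQ'le, hQ1 := hQ'1, hQM := hQ'K.trans inf_le_left,
        hQP := hQ'K.trans inf_le_right, hRQ := hRQ', hCQ := hQ'C }
    obtain ⟨-, -, hu2⟩ := hA _ _ _ _ _ _ _ _ _ c2
    have hNM : normalizer ((⁅Bs, R⁆ : Subgroup G) : Set G) ≤ M :=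
      Cfsg.Agent.Helper54.bg13_beta_norm_le hG c.hM hsβ (hBss.to_le hQ'le) hQ'1 (hQ'le.trans (hBsB.trans hBM))
    exact hMH (hu2 M c.hM hNM)
  -- (B) `B` centralizes `H_σ ∩ M`
  have hBD : B ≤ centralizer ((sigmaCore H ⊓ M : Subgroup G) : Set G) := by
    obtain ⟨D, hDdef⟩ : ∃ D : Subgroup G, D = sigmaCore H ⊓ M := ⟨_, rfl⟩
    rw [← hDdef]
    have hDσ : D ≤ sigmaCore H := hDdef ▸ inf_le_left
    have hDM : D ≤ M := hDdef ▸ inf_le_right
    have hB0 : Nat.card B ≠ 0 := Nat.card_pos.ne'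
    have hC0 : Nat.card (B ⊓ centralizer (D : Set G) : Subgroup G) ≠ 0 := Nat.card_pos.ne'
    have hdvd : Nat.card B ∣ Nat.card (B ⊓ centralizer (D : Set G) : Subgroup G) := by
      rw [← Nat.factorization_prime_le_iff_dvd hB0 hC0]
      intro s hs
      haveI : Fact s.Prime := ⟨hs⟩
      by_cases hsB : s ∣ Nat.card B
      · obtain ⟨Bs, hBs⟩ := sylowSet_nonempty (p := s) B
        have hBsB : Bs ≤ B := hBs.1
        have hBss : IsPGroup s Bs := isPGroup_of_mem_sylowSet hBs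
        have hsβ := hBprime s hs hsB
        have hsα : s ∈ alpha M := hsβ.1
        have hsH : s ∉ sigma H := fun hsσ =>
          Cfsg.Agent.Helper68.bg13_alpha_disjoint hG c.hH c.hM hnc' hsσ hsα
        have hBsD : Bs ≤ normalizer (D : Set G) := by
          rw [hDdef]
          exact (le_inf (hBsB.trans (hBH.trans (le_normalizer_piCoreOf _ _)))
            (hBsB.trans (hBM.trans le_normalizer))).trans
              Subgroup.inf_normalizer_le_normalizer_inf
        have hF := Cfsg.Agent.Helper24.bg13_factF hG c.hH c.hM hnc' hsH hBss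
          (hBsB.trans (hBβ.trans (hβσ.trans
            (Cfsg.Agent.Helper24.bg1217_sigmaCore_le_comm hG hU c.hM))))
          hDσ hDM hBsD
        have hBsC : Bs ≤ B ⊓ centralizer (D : Set G) := by
          refine le_inf hBsB ?_
          intro x hx
          rw [mem_centralizer_iff]
          intro d hd
          exact (hF d hd x hx).symm
        have h1 : s ^ (Nat.card B).factorization s ∣
            Nat.card (B ⊓ centralizer (D : Set G) : Subgroup G) := by
          rw [← hBs.2]; exact Subgroup.card_dvd_of_le hBsC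
        exact (Nat.Prime.pow_dvd_iff_le_factorization hs hC0).mp h1
      · rw [Nat.factorization_eq_zero_of_not_dvd hsB]; exact Nat.zero_le _
    have hEq : B ⊓ centralizer (D : Set G) = B :=
      Subgroup.eq_of_le_of_card_ge inf_le_left (Nat.le_of_dvd Nat.card_pos hdvd)
    rw [← hEq]; exact inf_le_right
  have hqM : q ∈ sigma M := Cfsg.Agent.Helper22.bg13sw_mem_sigma hG c.hM c.hq c.hQq c.hQ1 c.hQM
  have hQM' : Q ≤ M := c.hQM.trans (piCoreOf_le _ _)
  have hQH : Q ≤ H := c.hQP.trans hCN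
  have hQσH : Q ≤ sigmaCore H :=
    Cfsg.Agent.Helper22.bg12_le_sigmaCore hG hU c.hH c.hq hqH hQH c.hQq
  have hBQ : B ≤ centralizer (Q : Set G) :=
    hBD.trans (Subgroup.centralizer_le (le_inf hQσH hQM'))
  -- (C) the 12.18 claim in `M`
  have hqα : q ∉ alpha M := Cfsg.Agent.Helper68.bg13_alpha_disjoint hG c.hH c.hM hnc' hqH
  have hqr : q ≠ r := fun e => hrM.2.1 (e ▸ hqM)
  have hnu : ¬ (normalizer (Q : Set G) ≤ M ∧
      ∀ L : Subgroup G, IsCoatom L → normalizer (Q : Set G) ≤ L → L = M) := by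
    rintro ⟨-, h2⟩
    exact hMH (h2 H c.hH hu.1).symm
  have h := hC M R Q r q c.hM hrM hRM c.hR c.hq hqα hqr c.hQq c.hQ1 hQM' c.hRQ c.hCQ hnu
  rw [eq_bot_iff, ← h]
  exact le_inf (le_inf (hBβ.trans hβα) hBQ) (bg13_cent_symm hRC)

end Cfsg.Agent.Helper2
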