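/-
helper2: CALL S1428 PIECE SW6 (the swap, step (S5) of insight 3428).
-/
import Cfsg.Agent.Helper2.BG13Aux
import Cfsg.Agent.Helper68.BG13CTX
import Cfsg.Agent.Helper54.BG13Gen
import Cfsg.Agent.Helper35.CoprimeSylow
import Cfsg.Agent.Helper35.Coprime
import Cfsg.Agent.S1405
import Cfsg.Agent.S1409

set_option autoImplicit false

namespace Cfsg.Agent.Helper2

open Cfsg Subgroup Cfsg.Agent.Helper23 Cfsg.Agent.Helper35

universe u

variable {G : Type u} [Group G] [Finite G]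

/-- PIECE SW6: the swap. -/
theorem bg13_sw_final (hG : IsMinSimpleOddOrder G) (hA : PropA G)
    {M E P R H Q : Subgroup G} {p r q : ℕ} (c : T1Ctx M E P R H Q p r q) (hrM : r ∈ tau1 M)
    (hB : piCoreOf (beta M) M ⊓ H = ⊥)
    (hCR : piCoreOf (beta M) M ⊓ centralizer (R : Set G) ≠ ⊥) : False := by
  have hPM : P ≤ M := c.hPE.trans c.hE.1
  have hRM : R ≤ M := c.hRE.trans c.hE.1
  obtain ⟨-, -, hK⟩ := Cfsg.Agent.Helper68.bg13_ctx hG c.hM c.hp hPM c.hP c.hH c.hNP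
  have hβσ := bg13_betaCore_le_sigmaCore hG c.hM
  have hpp : p.Prime := c.hp.1
  have hPR : P ≤ centralizer (R : Set G) := by
    intro x hx
    rw [mem_centralizer_iff]
    intro y hy
    have := c.hRP hy
    rw [mem_centralizer_iff] at this
    exact (this x hx).symm
  -- `P` normalizes `C := M_β ∩ C(R)`
  have hPC : P ≤ normalizer ((piCoreOf (beta M) M ⊓ centralizer (R : Set G) : Subgroup G) : Set G) :=
    (le_inf (hPM.trans (le_normalizer_piCoreOf _ _)) (bg13_le_normalizer_centralizer hPR)).trans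
      Subgroup.inf_normalizer_le_normalizer_inf
  have hCσ : piCoreOf (beta M) M ⊓ centralizer (R : Set G) ≤ sigmaCore M :=
    inf_le_left.trans hβσ
  have hcop : (Nat.card P).Coprime
      (Nat.card ↥(piCoreOf (beta M) M ⊓ centralizer (R : Set G) : Subgroup G)) := by
    rw [c.hP, Nat.Prime.coprime_iff_not_dvd hpp]
    intro hd
    exact c.hp.2.1 (mem_of_dvd_card_piCoreOf (sigma M) M hpp
      (hd.trans (Subgroup.card_dvd_of_le hCσ)))
  have hsolv : Group.IsSolvable P ∨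
      Group.IsSolvable ↥(piCoreOf (beta M) M ⊓ centralizer (R : Set G) : Subgroup G) :=
    Or.inl (isSolvable_of_le hPM (uq_isSolvable hG c.hM.1))
  have hc1 : Nat.card ↥(piCoreOf (beta M) M ⊓ centralizer (R : Set G) : Subgroup G) ≠ 1 :=
    fun e => hCR (Subgroup.card_eq_one.mp e)
  obtain ⟨s, hs, hsC⟩ := Nat.exists_prime_and_dvd hc1
  haveI := Fact.mk hs
  obtain ⟨Q2, hQ2, hPQ2⟩ := exists_invariant_sylow hPC hcop hsolv s
  have hQ2C : Q2 ≤ piCoreOf (beta M) M ⊓ centralizer (R : Set G) := hQ2.1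
  have hQ2β : Q2 ≤ piCoreOf (beta M) M := hQ2C.trans inf_le_left
  have hQ2s : IsPGroup s Q2 := isPGroup_of_mem_sylowSet hQ2
  have hQ21 : Q2 ≠ ⊥ := by
    intro e
    have h1 : Nat.card Q2 = 1 := by rw [e]; exact Subgroup.card_bot
    rw [hQ2.2] at h1
    have h2 : 0 < (Nat.card ↥(piCoreOf (beta M) M ⊓ centralizer (R : Set G) :
        Subgroup G)).factorization s :=
      hs.factorization_pos_of_dvd Nat.card_pos.ne' hsC
    have h3 := Nat.one_lt_pow h2.ne' hs.one_lt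
    omega
  have hsβ : s ∈ beta M := mem_of_dvd_card_piCoreOf (beta M) M hs
    (hsC.trans (Subgroup.card_dvd_of_le inf_le_left))
  have hQ2P : Q2 ⊓ centralizer (P : Set G) = ⊥ := by
    rw [eq_bot_iff]
    intro x hx
    have hxβ : x ∈ piCoreOf (beta M) M := hQ2β hx.1
    have hxK : x ∈ sigmaCore M ⊓ centralizer (P : Set G) := ⟨hβσ hxβ, hx.2⟩
    rw [← hK] at hxK
    have : x ∈ piCoreOf (beta M) M ⊓ H := ⟨hxβ, hxK.2⟩
    rwa [hB] at this
  obtain ⟨H2, hH2, hNR⟩ := Cfsg.Agent.Helper68.bg13_exists_over hG c.hr c.hR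
  have c2 : T1Ctx M E R P H2 Q2 r p s :=
    { hM := c.hM, hE := c.hE, hp := hrM, hPE := c.hRE, hP := c.hR, hRE := c.hPE, hRP := hPR,
      hr := hpp, hR := c.hP, hrp := c.hrp.symm, hH := hH2, hNP := hNR, hq := hs, hQq := hQ2s,
      hQ1 := hQ21, hQM := hQ2β.trans hβσ, hQP := hQ2C.trans inf_le_right, hRQ := hPQ2,
      hCQ := hQ2P }
  obtain ⟨-, hN2, hu2⟩ := hA _ _ _ _ _ _ _ _ _ c2
  have hNM : normalizer (Q2 : Set G) ≤ M :=
    Cfsg.Agent.Helper54.bg13_beta_norm_le hG c.hM hsβ hQ2s hQ21 (hQ2β.trans (piCoreOf_le _ _))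
  have hMH2 : M = H2 := hu2 M c.hM hNM
  have hNRM : normalizer (R : Set G) ≤ M := by rw [hMH2]; exact hNR
  haveI := Fact.mk c.hr
  have h9 := Cfsg.Agent.S1409.result hG M c.hM r hrM.2.1 R c.hR hNRM
  exact h9.1.2 hrM.2.2.2.2

end Cfsg.Agent.Helper2
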