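/-
helper2: B&G Theorem 13.4 (row S1428), final assembly of CALL S1428 (paper proof: insight 3428
+ 3469).  Pieces: helper24 (A1, II, NB1), helper54 (CL, CM, AC, SG, BN), helper68 (CTX, AD, OV,
TO, EQ, NB5, NB6), helper72 (NB2, NB4, NB8, NB9), helper34 (NB7), helper22 (NB10, SW2, SW3),
helper62 (SW1, SW5), helper2 (SW4, SW6, assembly).
-/
import Cfsg.Agent.Helper2.BG13Defs
import Cfsg.Agent.Helper2.BG13SW4
import Cfsg.Agent.Helper2.BG13SW6
import Cfsg.Agent.Helper23.Uniq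
import Cfsg.Agent.Helper24.BG13A1w
import Cfsg.Agent.Helper24.BG13II
import Cfsg.Agent.Helper54.BG13CL
import Cfsg.Agent.Helper54.BG13Gen
import Cfsg.Agent.Helper68.BG13CTX
import Cfsg.Agent.Helper68.BG13NB56
import Cfsg.Agent.Helper72.BG13NB
import Cfsg.Agent.Helper72.BG13NB8
import Cfsg.Agent.Helper72.BG13NB9
import Cfsg.Agent.Helper22.BG13NB10
import Cfsg.Agent.Helper22.BG13SW2
import Cfsg.Agent.Helper22.BG13SW3
import Cfsg.Agent.Helper62.BG13SW1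
import Cfsg.Agent.Helper62.BG13SW5

set_option autoImplicit false

namespace Cfsg.Agent.Helper2

open Cfsg Subgroup Cfsg.Agent.Helper23

universe u

variable {G : Type u} [Group G] [Finite G]

/-- Assembly of BLOCK NB: `[M_σ ∩ H, M ∩ H] = 1` when `p ∈ σ(H) \ β(H)`. -/
theorem bg13_nonbeta (hG : IsMinSimpleOddOrder G) {M P H : Subgroup G} {p : ℕ}
    (n : NBCtx M P H p) : (⁅sigmaCore M ⊓ H, M ⊓ H⁆ : Subgroup G) = ⊥ := by
  by_contra hT
  obtain ⟨hTK, S₀, hS₀, hPS, hS₀H, hTS⟩ := Cfsg.Agent.Helper72.bg13_nb_sylow hG n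
  have h5 : NBFive M H := by
    intro q Y hq hYq hY1 hYT hC
    exact Cfsg.Agent.Helper72.bg13_nb_lemmaK hG n.hM n.hp hq hYq hY1
      (hYT.trans (hTK.trans inf_le_left)) hS₀ (hYT.trans hTS) hC
  obtain ⟨q, X, hq, hX, hXT, hXN⟩ := Cfsg.Agent.Helper68.bg13_nb_X hG n h5 hT
  obtain ⟨L, hL, hNX⟩ := Cfsg.Agent.Helper68.bg13_exists_over hG hq hX
  rcases Cfsg.Agent.Helper68.bg13_nb_type hG n hq hX hXT with hqσ | hq3
  · rcases Cfsg.Agent.Helper68.bg13_type_over hG hL hq hX hNX with hqL | hq2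
    · exact Cfsg.Agent.Helper72.bg13_nb_sigmaL hG n h5 hqσ hqL hX hXT hXN hL hNX hS₀ hPS hS₀H hTS
    · exact Cfsg.Agent.Helper22.bg13_nb_tau2L hG n h5 hqσ hq2 hX hXT hXN hL hNX hS₀ hPS hS₀H hTS
  · exact Cfsg.Agent.Helper72.bg13_nb_tau3 hG n h5 hq3 hX hXT hXN hL hNX hS₀ hPS hS₀H hTS

/-- Assembly of PROP A from the blocks. -/
theorem bg13_propA (hG : IsMinSimpleOddOrder G) : PropA G := by
  intro M E P R H Q p r q c
  have hPM : P ≤ M := c.hPE.trans c.hE.1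
  have hRM : R ≤ M := c.hRE.trans c.hE.1
  obtain ⟨hnc, -, -⟩ := Cfsg.Agent.Helper68.bg13_ctx hG c.hM c.hp hPM c.hP c.hH c.hNP
  have hrH := Cfsg.Agent.Helper24.bg13_r_tau1 hG c
  have hpH := Cfsg.Agent.Helper24.bg13_p_sigma hG c hrH
  have hCN : centralizer (P : Set G) ≤ H := (centralizer_le_normalizer _).trans c.hNP
  have hQH : Q ≤ H := c.hQP.trans hCN
  have hRH : R ≤ H := c.hRP.trans hCN
  have hPH : P ≤ H := le_normalizer.trans c.hNP
  have hqM : q ∈ sigma M := Cfsg.Agent.Helper54.bg13_mem_sigma c.hq c.hQq c.hQ1 c.hQM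
  have hrM : r ∉ sigma M := Cfsg.Agent.Helper54.bg13_not_sigma hG c.hM c.hE c.hr c.hR c.hRE
  have hqr : q ≠ r := fun e => hrM (e ▸ hqM)
  have hpβ : p ∈ beta H := by
    by_contra hpβ
    have hT := bg13_nonbeta hG (M := M) (P := P) (H := H) (p := p)
      ⟨c.hM, c.hp, hPM, c.hP, c.hH, c.hNP, hpH, hpβ⟩
    have h1 : Q ≤ ⁅Q, R⁆ := Cfsg.Agent.Helper54.bg13_comm_eq c.hr c.hR c.hQq hqr c.hRQ c.hCQ
    have h2 : (⁅Q, R⁆ : Subgroup G) ≤ ⁅sigmaCore M ⊓ H, M ⊓ H⁆ :=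
      Subgroup.commutator_mono (le_inf c.hQM hQH) (le_inf hRM hRH)
    exact c.hQ1 (le_bot_iff.mp (h1.trans (h2.trans hT.le)))
  refine ⟨hpH, ?_⟩
  by_contra hnu
  have hqα : q ∉ alpha H := Cfsg.Agent.Helper68.bg13_alpha_disjoint hG c.hM c.hH hnc hqM
  have h := Cfsg.Agent.Helper54.bg13_claim hG H R Q r q c.hH hrH hRH c.hR c.hq hqα hqr c.hQq
    c.hQ1 hQH c.hRQ c.hCQ hnu
  have hpp : p.Prime := c.hp.1
  have hPp : IsPGroup p P := IsPGroup.of_card (n := 1) (by rw [c.hP, pow_one])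
  have hPα : P ≤ alphaCore H := Cfsg.Agent.Helper54.bg13_le_alphaCore hG c.hH hpβ.1 hPp hPH
  have hPQ : P ≤ centralizer (Q : Set G) := bg13_cent_symm c.hQP
  have hPR : P ≤ centralizer (R : Set G) := bg13_cent_symm c.hRP
  have hP0 : P ≤ ⊥ := h ▸ le_inf (le_inf hPα hPQ) hPR
  have hP1 : P = ⊥ := le_bot_iff.mp hP0
  have hc : Nat.card P = 1 := by rw [hP1]; exact Subgroup.card_bot
  rw [c.hP] at hc
  exact hpp.one_lt.ne' hc

/-- **B&G Theorem 13.4** (row S1428). -/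
theorem bg13_1428 (hG : IsMinSimpleOddOrder G)
    (M : Subgroup G) (hM : IsCoatom M) (E : Subgroup G) (hE : IsComplIn E (sigmaCore M) M) (p : ℕ)
    (hp : p ∈ tau1 M) (P : Subgroup G) (hPE : P ≤ E) (hP : Nat.card P = p)
    (R : Subgroup G) (hRE : R ≤ E ⊓ centralizer (P : Set G)) (hR : (Nat.card R).Prime) :
    sigmaCore M ⊓ centralizer (P : Set G) ≤ sigmaCore M ⊓ centralizer (R : Set G) := by
  have hA : PropA G := bg13_propA hG
  have hC : Claim1218 G := Cfsg.Agent.Helper54.bg13_claim hG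
  have hRE' : R ≤ E := hRE.trans inf_le_left
  have hRP : R ≤ centralizer (P : Set G) := hRE.trans inf_le_right
  by_cases hrp : Nat.card R = p
  · have h := Cfsg.Agent.Helper68.bg13_eq_of_card hG hM hE hp hPE hP hRE' hRP hrp
    rw [h]
  · by_contra hne
    have hne' : ¬ sigmaCore M ⊓ centralizer (P : Set G) ≤ centralizer (R : Set G) :=
      fun h => hne (le_inf inf_le_left h)
    obtain ⟨H, S, q, hH, hNP, hq, hS, hRS, hQ1, hQS, hRQ, hCQ⟩ :=
      Cfsg.Agent.Helper62.bg13_sw_exists hG hM hE hp hPE hP hRE' hRP hR rfl hrp hne'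
    have hSK : S ≤ sigmaCore M ⊓ centralizer (P : Set G) := hS.1
    have c : T1Ctx M E P R H ⁅S, R⁆ p (Nat.card R) q :=
      { hM := hM, hE := hE, hp := hp, hPE := hPE, hP := hP, hRE := hRE', hRP := hRP, hr := hR,
        hR := rfl, hrp := hrp, hH := hH, hNP := hNP, hq := hq, hQq := hS.2.1.to_le hQS,
        hQ1 := hQ1, hQM := hQS.trans (hSK.trans inf_le_left),
        hQP := hQS.trans (hSK.trans inf_le_right), hRQ := hRQ, hCQ := hCQ }
    obtain ⟨hpH, hu⟩ := hA _ _ _ _ _ _ _ _ _ c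
    obtain ⟨hqH, hSsyl, hNS⟩ := Cfsg.Agent.Helper22.bg13_sw_sylow hG c hpH hu hS hQS
    have hSM : S ≤ sigmaCore M := hSK.trans inf_le_left
    have hrM := Cfsg.Agent.Helper22.bg13_sw_r_tau1 hG c hqH hSM hSsyl hNS hRS hQS
    have hB := bg13_sw_B hG hA hC c hu hqH hrM
    have hCR := Cfsg.Agent.Helper62.bg13_sw_cent hG c hu hqH hSM hSsyl hNS hB
    exact bg13_sw_final hG hA c hrM hB hCR

end Cfsg.Agent.Helper2
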