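/-
helper2: B&G Theorem 14.7 (rows S1366, S1368, S1369, S1373), conditional on row S1351.
Shared definitions of CALL S1366: the hypothesis `Cyc51` (= the conclusion of S1351 used here)
and the "partner" relation `BGPair` between `(M, K)` and `(L, K₁)`.
-/
import Cfsg.Agent.Helper1.BGSDefs

set_option autoImplicit false

namespace Cfsg.Agent.Helper2

open Cfsg Subgroup

universe u

variable {G : Type u} [Group G]

/-- The part of row S1351 that is used: every Hall `κ(M)`-subgroup of every maximal subgroup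
is cyclic. -/
def Cyc51 (G : Type u) [Group G] : Prop :=
  ∀ (M K : Subgroup G), IsCoatom M → IsPiHallOf (kappa M) K M → IsCyclic K

/-- The (STAR)-count of helper1 (`Helper1.star_false`) as a hypothesis. -/
def StarCount (G : Type u) [Group G] : Prop :=
  ∀ (ι : Type u) [Finite ι] (Mf : ι → Subgroup G) (W : Subgroup G),
    Cfsg.Agent.Helper1.StarFamily Mf W → ∀ j k : ι, j ≠ k → False

/-- `(L, K₁)` is a partner of `(M, K)`: `L` is a maximal subgroup not conjugate to `M`, `K₁` is a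
Hall `κ(L)`-subgroup of `L` with `K* ≤ K₁ ≤ Z`, `K₁* ≤ K`, `K₁ K₁* = Z` and `M ∩ L = Z`, where
`K* = C_{M_σ}(K)`, `K₁* = C_{L_σ}(K₁)` and `Z = K K*`. -/
structure BGPair (M K L K₁ : Subgroup G) : Prop where
  coatom : IsCoatom L
  nconj : ∀ g : G, L ≠ M.map (MulAut.conj g).toMonoidHom
  hall : IsPiHallOf (kappa L) K₁ L
  ks_le : sigmaCore M ⊓ centralizer (K : Set G) ≤ K₁
  le_z : K₁ ≤ K ⊔ (sigmaCore M ⊓ centralizer (K : Set G))
  ks1_le : sigmaCore L ⊓ centralizer (K₁ : Set G) ≤ K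
  sup_eq : K₁ ⊔ (sigmaCore L ⊓ centralizer (K₁ : Set G)) =
    K ⊔ (sigmaCore M ⊓ centralizer (K : Set G))
  inf_eq : M ⊓ L = K ⊔ (sigmaCore M ⊓ centralizer (K : Set G))

end Cfsg.Agent.Helper2
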