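/-
helper2: piece D2 of CALL S1351D (helper1): the tilde set of a member of a (STAR) family is disjoint
from the conjugates of `starHat`.
-/
import Cfsg.Agent.Helper1.BGSDefs

set_option autoImplicit false

namespace Cfsg.Agent.Helper2

open Cfsg Subgroup Cfsg.Agent.Helper1

universe u v

variable {G : Type u} [Group G]

/-- D2: the tilde set of a member is disjoint from the conjugates of `starHat`. -/
theorem bgs_tilde_hat_disj [Finite G] (hG : IsMinSimpleOddOrder G) {ι : Type v}
    {M : ι → Subgroup G} {W : Subgroup G} (h : StarFamily M W) (j : ι) :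
    Disjoint (starTilde (M j)) (starConj M W) := by
  rw [Set.disjoint_left]
  rintro t ⟨a, ⟨ha, ha1⟩, r, hr, y, hy⟩ ⟨y', w, ⟨hwW, i, k', hik, ⟨p, hp, hpw⟩, ⟨q, hq, hqw⟩⟩, hy'⟩
  have hMj := h.coatom j
  have ha1' : a ≠ 1 := fun h => ha1 (by simp [h])
  have hcomm := Cfsg.Agent.Helper54.bg14t_supp_comm hG hMj ha ha1' hr
  have hcop := Cfsg.Agent.Helper54.bg14t_supp_coprime hG hMj ha ha1' hr
  have hmem := (Cfsg.Agent.Helper54.bg14t_mem_zpowers_mul hcomm hcop).1
  -- W ≤ M j
  have hWj : W ≤ M j := by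
    by_cases hij : i = j
    · have hk : j ≠ k' := fun hh => hik (hij.trans hh)
      rw [← h.inf_eq j k' hk]; exact inf_le_left
    · rw [← h.inf_eq j i (fun hh => hij hh.symm)]; exact inf_le_left
  set c : G := y⁻¹ * y' with hc
  have har : a * r = c * w * c⁻¹ := by
    have h1 : y * (a * r) * y⁻¹ = y' * w * y'⁻¹ := by rw [← hy, ← hy']
    have h2 : a * r = y⁻¹ * (y * (a * r) * y⁻¹) * y := by group
    rw [h2, h1, hc]; group
  -- d := c⁻¹ a c ∈ zpowers w
  have hdw : c⁻¹ * a * c ∈ zpowers w := by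
    obtain ⟨n, hn⟩ := Subgroup.mem_zpowers_iff.mp hmem
    rw [Subgroup.mem_zpowers_iff]
    refine ⟨n, ?_⟩
    rw [← hn, har]
    have : (c * w * c⁻¹) ^ n = c * w ^ n * c⁻¹ := by
      have := map_zpow (MulAut.conj c).toMonoidHom w n
      simpa [MulAut.conj_apply] using this
    rw [this]; group
  have hdW : c⁻¹ * a * c ∈ W := (Subgroup.zpowers_le.mpr hwW) hdw
  have hdM : c⁻¹ * a * c ∈ M j := hWj hdW
  have hord : orderOf (c⁻¹ * a * c) = orderOf a := by
    have := orderOf_injective (MulAut.conj c⁻¹).toMonoidHom (MulAut.conj c⁻¹).injective a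
    simpa [MulAut.conj_apply] using this
  have hdS : c⁻¹ * a * c ∈ sigmaCore (M j) := by
    apply Cfsg.Agent.Helper31.bgc_mem_sigmaCore_of_order hG hMj hdM
    rw [hord]
    have h' := orderOf_dvd_natCard (⟨a, ha⟩ : sigmaCore (M j))
    rwa [Subgroup.orderOf_mk] at h'
  have hd1 : c⁻¹ * a * c ≠ 1 := by
    intro hh
    apply ha1'
    have : a = c * (c⁻¹ * a * c) * c⁻¹ := by group
    rw [this, hh]; group
  have hgood := h.good j (c⁻¹ * a * c) ⟨hdS, hdW⟩ hd1
  have haM : a ∈ M j := Cfsg.Agent.Helper23.piCoreOf_le (sigma (M j)) (M j) ha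
  obtain ⟨c₀, hc₀, m, hm, hcm⟩ := Cfsg.Agent.Helper54.bg14t_trans hG hMj (x := c⁻¹ * a * c)
    (g := c⁻¹) hdS hd1 (by
      have : (c⁻¹)⁻¹ * (c⁻¹ * a * c) * c⁻¹ = a := by group
      rw [this]; exact haM)
  have hcM : c ∈ M j := by
    have : c⁻¹ ∈ M j := by rw [hcm]; exact mul_mem (hgood hc₀) hm
    simpa using inv_mem this
  -- C_G(a) ≤ M j
  have hCa : centralizer ({a} : Set G) ≤ M j := by
    intro z hz
    have hz' : c⁻¹ * z * c ∈ centralizer ({c⁻¹ * a * c} : Set G) := by
      rw [mem_centralizer_iff]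
      intro x hx
      rw [Set.mem_singleton_iff] at hx
      have hza : a * z = z * a := (mem_centralizer_iff.mp hz) a (Set.mem_singleton a)
      rw [hx]
      calc c⁻¹ * a * c * (c⁻¹ * z * c) = c⁻¹ * (a * z) * c := by group
        _ = c⁻¹ * (z * a) * c := by rw [hza]
        _ = c⁻¹ * z * c * (c⁻¹ * a * c) := by group
    have h3 := hgood hz'
    have : z = c * (c⁻¹ * z * c) * c⁻¹ := by group
    rw [this]
    exact mul_mem (mul_mem hcM h3) (inv_mem hcM)
  have hR := (Cfsg.Agent.Helper54.bg14t_supportR hG hMj ha ha1').1 hCa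
  rw [hR, Subgroup.mem_bot] at hr
  rw [hr, mul_one] at har
  have hordw : orderOf w = orderOf a := by
    rw [har]
    have := orderOf_injective (MulAut.conj c).toMonoidHom (MulAut.conj c).injective w
    simpa [MulAut.conj_apply] using this.symm
  have hpj : p ∈ sigma (M j) :=
    Cfsg.Agent.Helper54.bg14t_mem_sigma_of_dvd ha hp.1 (hordw ▸ hpw)
  have hqj : q ∈ sigma (M j) :=
    Cfsg.Agent.Helper54.bg14t_mem_sigma_of_dvd ha hq.1 (hordw ▸ hqw)
  have hi : i = j := by
    by_contra hij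
    exact h.sigma_disj i j hij p hp hpj
  have hk : k' = j := by
    by_contra hkj
    exact h.sigma_disj k' j hkj q hq hqj
  exact hik (hi.trans hk.symm)

end Cfsg.Agent.Helper2
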