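/-
helper2: piece D5 of CALL S1351D (helper1): the size of `starHat`.
`W = {1} ⊔ starHat ⊔ ⨆_i (D_i ∖ 1)` with `D_i = (M i)_σ ∩ W`.
-/
import Cfsg.Agent.Helper1.BGSDefs

set_option autoImplicit false

namespace Cfsg.Agent.Helper2

open Cfsg Subgroup Cfsg.Agent.Helper1

universe u v

variable {G : Type u} [Group G]

/-- D5: the size of `starHat`. -/
theorem bgs_card_hat [Finite G] (hG : IsMinSimpleOddOrder G) {ι : Type v} [Fintype ι]
    {M : ι → Subgroup G} {W : Subgroup G} (h : StarFamily M W) (j k : ι) (hjk : j ≠ k) :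
    Set.ncard (starHat M W) + 1 + ∑ i, (Nat.card ↥(sigmaCore (M i) ⊓ W) - 1) = Nat.card W := by
  classical
  have hU : Cfsg.Agent.Helper22.BGUniq G :=
    fun K hK h1 h2 => Cfsg.Agent.S1403.result hG K hK h1 h2
  -- W ≤ M i for all i
  have hWM : ∀ i, W ≤ M i := by
    intro i
    by_cases hij : i = j
    · subst hij; rw [← h.inf_eq i k hjk]; exact inf_le_left
    · rw [← h.inf_eq i j hij]; exact inf_le_left
  set S : ι → Set G := fun i => ((sigmaCore (M i) ⊓ W : Subgroup G) : Set G) \ {1} with hS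
  have hSc : ∀ i, (S i).ncard = Nat.card ↥(sigmaCore (M i) ⊓ W) - 1 := by
    intro i
    have h1 : (S i).ncard = ((sigmaCore (M i) ⊓ W : Subgroup G) : Set G).ncard - 1 :=
      Set.ncard_sdiff_singleton_of_mem (one_mem (sigmaCore (M i) ⊓ W))
    rw [h1]
    congr 1
  have hprime_sigma : ∀ i, ∀ w ∈ sigmaCore (M i), ∀ q : ℕ, q.Prime → q ∣ orderOf w →
      q ∈ sigma (M i) :=
    fun i w hw q hq hd => Cfsg.Agent.Helper54.bg14t_mem_sigma_of_dvd hw hq hd
  have hSS : Pairwise (Function.onFun Disjoint S) := by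
    intro i i' hii
    rw [Function.onFun, Set.disjoint_left]
    rintro w ⟨hw, hw1⟩ ⟨hw', -⟩
    have hw1' : w ≠ 1 := fun hh => hw1 (by simp [hh])
    obtain ⟨q, hq, hqd⟩ :=
      Nat.exists_prime_and_dvd (fun hh => hw1' (orderOf_eq_one_iff.mp hh))
    exact h.sigma_disj i i' hii q (hprime_sigma i w hw.1 q hq hqd)
      (hprime_sigma i' w hw'.1 q hq hqd)
  have hSH : ∀ i, Disjoint (S i) (starHat M W) := by
    intro i
    rw [Set.disjoint_left]
    rintro w ⟨hw, -⟩ ⟨-, a, b, hab, ⟨p, hp, hpw⟩, ⟨q, hq, hqw⟩⟩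
    have hpi := hprime_sigma i w hw.1 p hp.1 hpw
    have hqi := hprime_sigma i w hw.1 q hq.1 hqw
    have ha : a = i := by
      by_contra hne; exact h.sigma_disj a i hne p hp hpi
    have hb : b = i := by
      by_contra hne; exact h.sigma_disj b i hne q hq hqi
    exact hab (ha.trans hb.symm)
  have h1H : (1 : G) ∉ starHat M W := by
    rintro ⟨-, a, b, -, ⟨p, hp, hpw⟩, -⟩
    rw [orderOf_one] at hpw
    exact hp.1.one_lt.ne' (Nat.dvd_one.mp hpw)
  have hcover : (W : Set G) = insert 1 (starHat M W ∪ ⋃ i, S i) := by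
    ext w
    constructor
    · intro hw
      by_cases hw1 : w = 1
      · left; exact hw1
      right
      by_cases hH : w ∈ starHat M W
      · left; exact hH
      right
      obtain ⟨p, hp, hpd⟩ :=
        Nat.exists_prime_and_dvd (fun hh => hw1 (orderOf_eq_one_iff.mp hh))
      have hoW : orderOf w ∣ Nat.card W := by
        have h' := orderOf_dvd_natCard (⟨w, hw⟩ : W)
        rwa [Subgroup.orderOf_mk] at h'
      obtain ⟨i, hi⟩ := h.prime_mem p hp (hpd.trans hoW)
      have hall : ∀ q : ℕ, q.Prime → q ∣ orderOf w → q ∈ sigma (M i) := by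
        intro q hq hqd
        obtain ⟨i', hi'⟩ := h.prime_mem q hq (hqd.trans hoW)
        by_cases hii : i = i'
        · rw [hii]; exact hi'
        · exact absurd ⟨hw, i, i', hii, ⟨p, hi, hpd⟩, ⟨q, hi', hqd⟩⟩ hH
      have hwM : w ∈ M i := hWM i hw
      have hwS : w ∈ sigmaCore (M i) := by
        obtain ⟨⟨hle, hpi, hidx⟩, -, -⟩ :=
          Cfsg.Agent.Helper22.bg10_sigma_hall hG hU (h.coatom i)
        have hrel : (sigmaCore (M i)).relIndex (M i) =
            (piCore (sigma (M i)) ↥(M i)).index := by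
          rw [Subgroup.relIndex]
          congr 1
          exact Subgroup.comap_map_eq_self_of_injective (M i).subtype_injective
            (piCore (sigma (M i)) ↥(M i))
        suffices hb' : (⟨w, hwM⟩ : ↥(M i)) ∈ piCore (sigma (M i)) ↥(M i) from
          ⟨⟨w, hwM⟩, hb', rfl⟩
        rw [← QuotientGroup.eq_one_iff, ← orderOf_eq_one_iff]
        by_contra hne
        obtain ⟨q, hq, hqd⟩ := Nat.exists_prime_and_dvd hne
        have h1 : orderOf ((⟨w, hwM⟩ : ↥(M i)) : ↥(M i) ⧸ piCore (sigma (M i)) ↥(M i)) ∣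
            orderOf (⟨w, hwM⟩ : ↥(M i)) :=
          orderOf_map_dvd (QuotientGroup.mk' (piCore (sigma (M i)) ↥(M i))) ⟨w, hwM⟩
        have h2 : orderOf (⟨w, hwM⟩ : ↥(M i)) = orderOf w := Subgroup.orderOf_mk w hwM
        have h3 : orderOf ((⟨w, hwM⟩ : ↥(M i)) : ↥(M i) ⧸ piCore (sigma (M i)) ↥(M i))
            ∣ Nat.card (↥(M i) ⧸ piCore (sigma (M i)) ↥(M i)) := orderOf_dvd_natCard _
        have hqσ : q ∈ sigma (M i) := hall q hq (hqd.trans (h1.trans (h2 ▸ dvd_rfl)))
        apply hidx q hq hqσ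
        rw [hrel, Subgroup.index_eq_card]
        exact hqd.trans h3
      exact Set.mem_iUnion.mpr ⟨i, ⟨hwS, hw⟩, fun hh => hw1 (by simpa using hh)⟩
    · rintro (hw | hw | hw)
      · rw [hw]; exact W.one_mem
      · exact hw.1
      · obtain ⟨i, hi⟩ := Set.mem_iUnion.mp hw
        exact hi.1.2
  have hfin : ∀ s : Set G, s.Finite := fun s => Set.toFinite s
  have hU1 : (⋃ i, S i).ncard = ∑ i, (S i).ncard := by
    rw [Set.ncard_iUnion_of_finite (fun i => hfin _) hSS, finsum_eq_sum_of_fintype]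
  have hd1 : Disjoint (starHat M W) (⋃ i, S i) := by
    rw [Set.disjoint_iUnion_right]
    intro i; exact (hSH i).symm
  have h1not : (1 : G) ∉ starHat M W ∪ ⋃ i, S i := by
    rintro (hh | hh)
    · exact h1H hh
    · obtain ⟨i, hi⟩ := Set.mem_iUnion.mp hh
      exact hi.2 rfl
  have hW : Nat.card W = (W : Set G).ncard := Nat.card_coe_set_eq (W : Set G)
  rw [hW, hcover, Set.ncard_insert_of_notMem h1not (hfin _),
    Set.ncard_union_eq hd1 (hfin _) (hfin _), hU1]
  simp only [hSc]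
  ring

end Cfsg.Agent.Helper2
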