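/-
helper2: CALL S1366 auxiliary lemmas (B&G Theorem 14.7).
-/
import Cfsg.Agent.Helper2.BG147Defs
import Cfsg.Agent.Helper68.BG14R30
import Cfsg.Agent.Helper24.BG13V

set_option autoImplicit false

namespace Cfsg.Agent.Helper2

open Cfsg Subgroup

universe u

variable {G : Type u} [Group G] [Finite G]

theorem bg147k_use1 (hG : IsMinSimpleOddOrder G) : Cfsg.Agent.Helper68.BGUse1 G :=
  fun _ _ _ _ hM hpp hpσ hp1 hPM hP hD hH hNP =>
    Cfsg.Agent.Helper24.bg13u_over_sigma hG hM hpp hpσ hp1 hPM hP hD hH hNP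

omit [Finite G] in
theorem bg147k_ne_bot_of_prime {X : Subgroup G} (hXp : (Nat.card X).Prime) : X ≠ ⊥ := by
  intro h
  rw [h, Subgroup.card_bot] at hXp
  exact Nat.not_prime_one hXp

omit [Finite G] in
theorem bg147k_map_conj_one (M : Subgroup G) :
    M.map (MulAut.conj (1 : G)).toMonoidHom = M := by
  ext z
  simp

end Cfsg.Agent.Helper2
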