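/-
helper2: CALL S1366 piece HGE — Hall containment in a maximal subgroup of a minimal simple
group of odd order.
-/
import Cfsg.Agent.Helper2.BG147Defs
import Cfsg.Agent.Helper1.BGSK

set_option autoImplicit false

namespace Cfsg.Agent.Helper2

open Cfsg Subgroup

universe u

variable {G : Type u} [Group G] [Finite G]

/-- A5. Hall containment in a maximal subgroup. -/
theorem bg147_hall_ge (hG : IsMinSimpleOddOrder G) {L A : Subgroup G} (hL : IsCoatom L)
    (π : Set ℕ) (hAL : A ≤ L) (hA : ∀ p : ℕ, p.Prime → p ∣ Nat.card A → p ∈ π) :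
    ∃ K₁ : Subgroup G, IsPiHallOf π K₁ L ∧ A ≤ K₁ := by
  classical
  have : Group.IsSolvable L := Cfsg.Agent.Helper23.uq_isSolvable hG hL.1
  obtain ⟨m, n, hmn, hcop, hm, hn⟩ :=
    Cfsg.Agent.Helper35.exists_pi_factorization π (Nat.card L) Nat.card_pos.ne'
  have hAcard : Nat.card (A.subgroupOf L) = Nat.card A :=
    Nat.card_congr (Subgroup.subgroupOfEquivOfLe hAL).toEquiv
  have hAcop : (Nat.card (A.subgroupOf L)).Coprime n := by
    rw [hAcard]
    apply Nat.coprime_of_dvd
    intro p hp h1 h2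
    exact hn p hp (hA p hp h1) h2
  obtain ⟨H, hH, hAH⟩ :=
    Cfsg.Agent.Helper1.hall_le_aux (Nat.card L) L m n rfl hmn hcop (A.subgroupOf L) hAcop
  refine ⟨H.map L.subtype, ?_, ?_⟩
  · rw [Cfsg.Agent.Helper35.isPiHallOf_iff_card hmn hm hn]
    refine ⟨Subgroup.map_subtype_le H, ?_⟩
    rw [← hH]
    exact Nat.card_congr
      (Subgroup.equivMapOfInjective H L.subtype L.subtype_injective).symm.toEquiv
  · intro a ha
    exact ⟨⟨a, hAL ha⟩, hAH (Subgroup.mem_subgroupOf.mpr ha), rfl⟩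

end Cfsg.Agent.Helper2
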