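/-
helper2: CALL S1366 piece KSK (B&G Theorem 14.7).
-/
import Cfsg.Agent.Helper2.BG147Aux
import Cfsg.Agent.Helper20.BG147PA
import Cfsg.Agent.Helper1.BG147KAP
import Cfsg.Agent.S1352

set_option autoImplicit false

namespace Cfsg.Agent.Helper2

open Cfsg Subgroup

universe u

variable {G : Type u} [Group G] [Finite G]

open Cfsg.Agent.Helper20 (bg147_pa)
open Cfsg.Agent.Helper1 (bg147_mem_kappa)

/-- A4. Every prime divisor of `|K*|` lies in `κ(L)`. -/
theorem bg147_ks_kappa (hG : IsMinSimpleOddOrder G) {M K X L : Subgroup G} (hM : IsCoatom M)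
    (hK : IsPiHallOf (kappa M) K M) (hKc : IsCyclic K) (hK1 : K ≠ ⊥) (hXK : X ≤ K)
    (hXp : (Nat.card X).Prime) (hL : IsCoatom L) (hN : normalizer (X : Set G) ≤ L) :
    ∀ t : ℕ, t.Prime → t ∣ Nat.card ↥(sigmaCore M ⊓ centralizer (K : Set G)) → t ∈ kappa L := by
  intro t ht htd
  obtain ⟨hXσ, hnc, -, hKsL, -⟩ := bg147_pa hG hM hK hKc hK1 hXK hXp hL hN
  obtain ⟨⟨U, hKU⟩, -⟩ := Cfsg.Agent.S1352.result hG M hM K hKc hK
  obtain ⟨-, -, -, -, -, hu1⟩ := Cfsg.Agent.Helper23.bg14_pkg hG hM hKU hK1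
  have := Fact.mk ht
  obtain ⟨y, hy⟩ := exists_prime_orderOf_dvd_card' t htd
  have hYcard : Nat.card (Subgroup.zpowers (y : G)) = t := by
    rw [Nat.card_zpowers, Subgroup.orderOf_coe, hy]
  have hYle : Subgroup.zpowers (y : G) ≤ sigmaCore M ⊓ centralizer (K : Set G) :=
    (Subgroup.zpowers_le).mpr y.2
  have htσM : t ∈ sigma M :=
    Cfsg.Agent.Helper23.mem_of_dvd_card_piCoreOf (sigma M) M ht
      (htd.trans (Subgroup.card_dvd_of_le inf_le_left))
  have htσL : t ∉ sigma L := by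
    intro h
    obtain ⟨g, hg⟩ := (Cfsg.Agent.S1378.result hG).2 M L hM hL ⟨t, htσM, h⟩
    exact hnc g hg
  refine bg147_mem_kappa hG hL ht htσL (hYle.trans hKsL) hYcard ?_
    ⟨M, hM, (hu1 _ hYle (hYcard ▸ ht)).1, ?_⟩
  · intro h
    apply bg147k_ne_bot_of_prime hXp
    rw [eq_bot_iff, ← h]
    refine le_inf hXσ ?_
    intro x hx
    rw [mem_centralizer_iff]
    intro w hw
    exact (mem_centralizer_iff.mp (hYle hw).2 x (hXK hx)).symm
  · intro h
    apply hnc 1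
    rw [bg147k_map_conj_one, h]

end Cfsg.Agent.Helper2
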