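/-
helper2: CALL S1366 piece NCJ (B&G Theorem 14.7).
-/
import Cfsg.Agent.Helper2.BG147Aux
import Cfsg.Agent.Helper54.BG147EQS
import Cfsg.Agent.S1352

set_option autoImplicit false

namespace Cfsg.Agent.Helper2

open Cfsg Subgroup

universe u

variable {G : Type u} [Group G] [Finite G]

open Cfsg.Agent.Helper54 (bg147_eq_of_le_sigma)

/-- C6. Distinct members of the family are not conjugate. -/
theorem bg147_nconj (hG : IsMinSimpleOddOrder G) (hcyc : Cyc51 G)
    {M K L K₁ Q L' : Subgroup G} (hM : IsCoatom M) (hK : IsPiHallOf (kappa M) K M)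
    (hK1 : K ≠ ⊥) (hp : BGPair M K L K₁) (hQK : Q ≤ K) (hQp : (Nat.card Q).Prime)
    (hL' : IsCoatom L') (hN : normalizer (Q : Set G) ≤ L') (hne : L' ≠ L) :
    ∀ g : G, L' ≠ L.map (MulAut.conj g).toMonoidHom := by
  intro g hg
  have hKc := hcyc M K hM hK
  obtain ⟨⟨U, hKU⟩, -⟩ := Cfsg.Agent.S1352.result hG M hM K hKc hK
  obtain ⟨-, -, -, hKs1, -, -⟩ := Cfsg.Agent.Helper23.bg14_pkg hG hM hKU hK1
  have hD : sigmaCore M ⊓ centralizer (Q : Set G) ≠ ⊥ := by
    intro h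
    apply hKs1
    rw [eq_bot_iff] at h ⊢
    exact (inf_le_inf_left _ (Subgroup.centralizer_le hQK)).trans h
  have hQσ' : Q ≤ sigmaCore L' :=
    Cfsg.Agent.Helper68.bg14r_le_sigmaCore hG (bg147k_use1 hG) hM hK hQK hQp hD hL' hN
  have hq : Nat.card Q ∈ sigma L' :=
    Cfsg.Agent.Helper23.mem_of_dvd_card_piCoreOf (sigma L') L' hQp
      (Subgroup.card_dvd_of_le hQσ')
  rw [hg, Cfsg.Agent.Helper54.bg14t_sigma_conj] at hq
  have hQL : Q ≤ L := hQK.trans (le_sup_left.trans (hp.inf_eq ▸ inf_le_right))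
  have hU : Cfsg.Agent.Helper22.BGUniq G :=
    fun K hK h1 h2 => Cfsg.Agent.S1403.result hG K hK h1 h2
  have hQσ : Q ≤ sigmaCore L := by
    intro a ha
    refine Cfsg.Agent.Helper68.bg123_mem_sigmaCore hG hU hp.coatom hq (hQL ha) ?_
    have h := orderOf_dvd_natCard (⟨a, ha⟩ : Q)
    rw [Subgroup.orderOf_mk] at h
    exact orderOf_dvd_iff_pow_eq_one.mp h
  exact hne (bg147_eq_of_le_sigma hG hcyc hM hK hK1 hp hQK hQp hQσ hL'
    ((Subgroup.centralizer_le_normalizer _).trans hN))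

end Cfsg.Agent.Helper2
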