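/-
helper2: CALL S1366 piece PMEM (B&G Theorem 14.7).
-/
import Cfsg.Agent.Helper2.BG147Aux
import Cfsg.Agent.Helper20.BG147PA
import Cfsg.Agent.Helper34.BG147COAT
import Cfsg.Agent.Helper49.BG14U

set_option autoImplicit false

namespace Cfsg.Agent.Helper2

open Cfsg Subgroup

universe u

variable {G : Type u} [Group G] [Finite G]

open Cfsg.Agent.Helper20 (bg147_pa)
open Cfsg.Agent.Helper34 (bg147_exists_coatom)

/-- C9. Every prime of `|Z|` is in `σ(M)` or in `σ(L)` for a maximal `L` over `N_G(Q)`,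
`Q ≤ K` of prime order. -/
theorem bg147_prime_mem (hG : IsMinSimpleOddOrder G) {M K : Subgroup G} (hM : IsCoatom M)
    (hK : IsPiHallOf (kappa M) K M) (hKc : IsCyclic K) (hK1 : K ≠ ⊥) :
    ∀ q : ℕ, q.Prime → q ∣ Nat.card ↥(K ⊔ (sigmaCore M ⊓ centralizer (K : Set G))) →
      q ∈ sigma M ∨ ∃ Q L : Subgroup G, Q ≤ K ∧ (Nat.card Q).Prime ∧ IsCoatom L ∧
        normalizer (Q : Set G) ≤ L ∧ q ∈ sigma L := by
  intro q hq hqZ
  have hnorm : K ≤ normalizer ((sigmaCore M ⊓ centralizer (K : Set G) : Subgroup G) : Set G) := by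
    intro k hk
    rw [Subgroup.mem_normalizer_iff]
    intro h
    have hkM : k ∈ M := hK.1 hk
    have hσn := Cfsg.Agent.Helper23.le_normalizer_piCoreOf (sigma M) M hkM
    have hcn : k ∈ normalizer ((centralizer (K : Set G) : Subgroup G) : Set G) := by
      have hKn : k ∈ normalizer (K : Set G) := Subgroup.le_normalizer hk
      rw [Subgroup.mem_normalizer_iff]
      intro c
      constructor
      · intro hc
        rw [mem_centralizer_iff] at hc ⊢
        intro a ha
        have ha' : k⁻¹ * a * k ∈ K := K.mul_mem (K.mul_mem (K.inv_mem hk) ha) hk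
        have := hc _ ha'
        calc a * (k * c * k⁻¹) = k * ((k⁻¹ * a * k) * c) * k⁻¹ := by group
          _ = k * (c * (k⁻¹ * a * k)) * k⁻¹ := by rw [this]
          _ = k * c * k⁻¹ * a := by group
      · intro hc
        rw [mem_centralizer_iff] at hc ⊢
        intro a ha
        have ha' : k * a * k⁻¹ ∈ K := K.mul_mem (K.mul_mem hk ha) (K.inv_mem hk)
        have := hc _ ha'
        calc a * c = k⁻¹ * ((k * a * k⁻¹) * (k * c * k⁻¹)) * k := by group
          _ = k⁻¹ * ((k * c * k⁻¹) * (k * a * k⁻¹)) * k := by rw [this]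
          _ = c * a := by group
    rw [Subgroup.mem_inf, Subgroup.mem_inf]
    exact and_congr ((Subgroup.mem_normalizer_iff.mp hσn) h)
      ((Subgroup.mem_normalizer_iff.mp hcn) h)
  have hdvd : Nat.card ↥(K ⊔ (sigmaCore M ⊓ centralizer (K : Set G))) ∣
      Nat.card K * Nat.card ↥(sigmaCore M ⊓ centralizer (K : Set G)) := by
    have hinf : (sigmaCore M ⊓ centralizer (K : Set G)) ⊓ K = ⊥ := by
      rw [eq_bot_iff]
      intro z hz
      have : z ∈ K ⊓ sigmaCore M := ⟨hz.2, hz.1.1⟩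
      rw [Cfsg.Agent.Helper49.bg14u_kappa_inf_sigma hK.2.1] at this
      exact this
    have h := Cfsg.Agent.Helper35.card_sup_of_le_normalizer hnorm hinf
    rw [sup_comm, h, mul_comm]
  rcases (Nat.Prime.dvd_mul hq).mp (hqZ.trans hdvd) with h | h
  · right
    have := Fact.mk hq
    obtain ⟨y, hy⟩ := exists_prime_orderOf_dvd_card' q h
    have hQcard : Nat.card (Subgroup.zpowers (y : G)) = q := by
      rw [Nat.card_zpowers, Subgroup.orderOf_coe, hy]
    have hQK : Subgroup.zpowers (y : G) ≤ K := (Subgroup.zpowers_le).mpr y.2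
    have hQp : (Nat.card (Subgroup.zpowers (y : G))).Prime := hQcard ▸ hq
    obtain ⟨L, hL, hN⟩ := bg147_exists_coatom hG (bg147k_ne_bot_of_prime hQp) hQp
    obtain ⟨hQσ, -⟩ := bg147_pa hG hM hK hKc hK1 hQK hQp hL hN
    refine ⟨_, L, hQK, hQp, hL, hN, ?_⟩
    have := Cfsg.Agent.Helper23.mem_of_dvd_card_piCoreOf (sigma L) L hQp
      (Subgroup.card_dvd_of_le hQσ)
    rwa [hQcard] at this
  · left
    exact Cfsg.Agent.Helper23.mem_of_dvd_card_piCoreOf (sigma M) M hq
      (h.trans (Subgroup.card_dvd_of_le inf_le_left))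

end Cfsg.Agent.Helper2
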