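/-
helper2: B&G Theorem 14.7 (a)-(c), row S1366: existence and uniqueness of the partner `M*` of a
maximal subgroup `M = K U M_σ` with `K ≠ 1`.  Assembly of the pieces of CALL S1366, with the
hypotheses `Cyc51 G` (row S1351) and `StarCount G` (helper1's `star_false`).
-/
import Cfsg.Agent.Helper2.BG147Aux
import Cfsg.Agent.Helper2.BG147HGE
import Cfsg.Agent.Helper2.BG147KSK
import Cfsg.Agent.Helper2.BG147NCJ
import Cfsg.Agent.Helper2.BG147PMEM
import Cfsg.Agent.Helper20.BG147PA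
import Cfsg.Agent.Helper1.BG147PC
import Cfsg.Agent.Helper51.BG147PART
import Cfsg.Agent.Helper51.BG147NPR
import Cfsg.Agent.Helper51.BG147EQS
import Cfsg.Agent.Helper70.BG147SOB
import Cfsg.Agent.Helper70.BG147PSUB
import Cfsg.Agent.Helper70.BG147EPS
import Cfsg.Agent.Helper22.BG147GOOD
import Cfsg.Agent.Helper34.BG147COAT
import Cfsg.Agent.S1352
import Cfsg.Agent.S1367
import Cfsg.Agent.S1372
import Cfsg.Agent.S1378

set_option autoImplicit false

namespace Cfsg.Agent.Helper2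

open Cfsg Subgroup
open Cfsg.Agent.Helper20 (bg147_pa)
open Cfsg.Agent.Helper1 (bg147_pc)
open Cfsg.Agent.Helper51 (bg147_partner bg147_not_prime bg147_eq_of_le_sigma)
open Cfsg.Agent.Helper70 (bg147_sup_of_bot bg147_prime_sub bg147_exists_prime_sub)
open Cfsg.Agent.Helper22 (bg147_good)
open Cfsg.Agent.Helper34 (bg147_exists_coatom)

universe u

variable {G : Type u} [Group G] [Finite G]

/-- The PAIR lemma. -/
theorem bg147_pair (hG : IsMinSimpleOddOrder G) (hcyc : Cyc51 G) {M K X L : Subgroup G}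
    (hM : IsCoatom M) (hK : IsPiHallOf (kappa M) K M) (hK1 : K ≠ ⊥) (hXK : X ≤ K)
    (hXp : (Nat.card X).Prime) (hL : IsCoatom L) (hN : normalizer (X : Set G) ≤ L) :
    X ≤ sigmaCore L ∧ ∃ K₁ : Subgroup G, BGPair M K L K₁ := by
  have hKc := hcyc M K hM hK
  obtain ⟨hXσ, -, -, hKsL, -⟩ := bg147_pa hG hM hK hKc hK1 hXK hXp hL hN
  obtain ⟨K₁, hK₁, hle⟩ := bg147_hall_ge hG hL (kappa L) hKsL
    (bg147_ks_kappa hG hM hK hKc hK1 hXK hXp hL hN)
  exact ⟨hXσ, K₁, bg147_pc hG hcyc hM hK hK1 hXK hXp hL hN hK₁ hle⟩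

/-- **Existence in row S1366**, conditional on S1351 and the (STAR) count. -/
theorem bg147_exists (hG : IsMinSimpleOddOrder G) (hcyc : Cyc51 G) (hstar : StarCount G)
    {M K U : Subgroup G} (hM : IsCoatom M) (hKU : IsSigmaDecomposition M K U) (hK1 : K ≠ ⊥) :
    ∃ Mstar : Subgroup G, IsCoatom Mstar ∧
      K = sigmaCore Mstar ⊓
        centralizer ((sigmaCore M ⊓ centralizer (K : Set G) : Subgroup G) : Set G) ∧
      IsPiHallOf (kappa Mstar) (sigmaCore M ⊓ centralizer (K : Set G)) Mstar := by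
  classical
  by_contra hno
  have hK := hKU.hall
  have hKc := hKU.cyclic
  let P : Subgroup G → Prop := fun L =>
    IsCoatom L ∧ ∃ Q : Subgroup G, Q ≤ K ∧ (Nat.card Q).Prime ∧ normalizer (Q : Set G) ≤ L
  have hdata : ∀ L, P L → ∃ K₁ : Subgroup G, BGPair M K L K₁ ∧ K ⊓ K₁ ≠ ⊥ := by
    rintro L ⟨hL, Q, hQK, hQp, hN⟩
    obtain ⟨-, K₁, hp⟩ := bg147_pair hG hcyc hM hK hK1 hQK hQp hL hN
    exact ⟨K₁, hp, fun h => hno ⟨L, hL, bg147_partner hG hM hK hKc hp h⟩⟩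
  choose! K₁ hK₁ using hdata
  obtain ⟨X, hXK, hXp⟩ := bg147_exists_prime_sub hK1
  obtain ⟨L₀, hL₀, hN₀⟩ := bg147_exists_coatom hG (bg147k_ne_bot_of_prime hXp) hXp
  have hP₀ : P L₀ := ⟨hL₀, X, hXK, hXp, hN₀⟩
  have hPM : ∀ L, P L → L ≠ M := by
    intro L hL h
    apply (hK₁ L hL).1.nconj 1
    rw [h]
    ext z
    simp
  have hmem : ∀ L : Subgroup G, (L = M ∨ P L) → ∃ Kj Uj : Subgroup G,
      IsSigmaDecomposition L Kj Uj ∧ Kj ≠ ⊥ ∧ ¬ (Nat.card Kj).Prime ∧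
      Kj ⊔ (sigmaCore L ⊓ centralizer (Kj : Set G)) =
        K ⊔ (sigmaCore M ⊓ centralizer (K : Set G)) ∧ IsCoatom L := by
    intro L hL
    rcases hL with h | hPL
    · rw [h]
      refine ⟨K, U, hKU, hK1, ?_, rfl, hM⟩
      obtain ⟨hp, hne⟩ := hK₁ L₀ hP₀
      exact (bg147_not_prime hG hM hK hKc hK1 (hcyc L₀ _ hp.coatom hp.hall) hp hne).1
    · obtain ⟨hp, hne⟩ := hK₁ L hPL
      have hc := hcyc L _ hp.coatom hp.hall
      obtain ⟨⟨Uj, hUj⟩, -⟩ := Cfsg.Agent.S1352.result hG L hp.coatom (K₁ L) hc hp.hall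
      refine ⟨K₁ L, Uj, hUj, ?_, (bg147_not_prime hG hM hK hKc hK1 hc hp hne).2, hp.sup_eq,
        hp.coatom⟩
      intro h
      apply hne
      rw [h, inf_bot_eq]
  have hZle : ∀ L : Subgroup G, (L = M ∨ P L) →
      K ⊔ (sigmaCore M ⊓ centralizer (K : Set G)) ≤ L := by
    intro L hL
    rcases hL with h | hPL
    · rw [h]
      exact sup_le hK.1 (inf_le_left.trans (Cfsg.Agent.Helper23.piCoreOf_le (sigma M) M))
    · rw [← (hK₁ L hPL).1.inf_eq]
      exact inf_le_right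
  have hUbot : ∀ L : Subgroup G, (L = M ∨ P L) → ∃ Kj : Subgroup G,
      (∀ m ∈ L, ∃ n ∈ sigmaCore L, ∃ k ∈ Kj, m = n * k) ∧
      Kj ≤ K ⊔ (sigmaCore M ⊓ centralizer (K : Set G)) ∧ IsCoatom L ∧
      (∀ d ∈ sigmaCore L ⊓ (K ⊔ (sigmaCore M ⊓ centralizer (K : Set G))), d ≠ 1 →
        centralizer ({d} : Set G) ≤ L) := by
    intro L hL
    obtain ⟨Kj, Uj, hKUj, hKj1, hnp, hsup, hco⟩ := hmem L hL
    have hUj : Uj = ⊥ := by
      by_contra hU
      exact hnp (Cfsg.Agent.S1372.result hG L hco Kj Uj hKUj hKj1 hU).1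
    refine ⟨Kj, bg147_sup_of_bot hKUj hUj, hsup ▸ le_sup_left, hco, ?_⟩
    have hg := bg147_good hG hco hKUj hKj1
    rw [hsup] at hg
    exact hg
  let ι := {L : Subgroup G // L = M ∨ P L}
  have hfam : Cfsg.Agent.Helper1.StarFamily (fun j : ι => j.1)
      (K ⊔ (sigmaCore M ⊓ centralizer (K : Set G))) := by
    refine ⟨?_, ?_, ?_, ?_, ?_, ?_, ?_⟩
    · rintro ⟨L, hL⟩
      obtain ⟨_, _, _, hco, _⟩ := hUbot L hL
      exact hco
    · rintro ⟨L, hL⟩ ⟨L', hL'⟩ hjk p hpj hpk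
      have hne : L ≠ L' := fun h => hjk (Subtype.ext h)
      change p ∈ sigma L at hpj
      change p ∈ sigma L' at hpk
      rcases hL with h | hPL <;> rcases hL' with h' | hPL'
      · exact hne (h.trans h'.symm)
      · rw [h] at hpj
        obtain ⟨g, hg⟩ := (Cfsg.Agent.S1378.result hG).2 M L' hM hPL'.1 ⟨p, hpj, hpk⟩
        exact (hK₁ L' hPL').1.nconj g hg
      · rw [h'] at hpk
        obtain ⟨g, hg⟩ := (Cfsg.Agent.S1378.result hG).2 M L hM hPL.1 ⟨p, hpk, hpj⟩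
        exact (hK₁ L hPL).1.nconj g hg
      · obtain ⟨g, hg⟩ := (Cfsg.Agent.S1378.result hG).2 L L' hPL.1 hPL'.1 ⟨p, hpj, hpk⟩
        obtain ⟨hL'c, Q, hQK, hQp, hN⟩ := hPL'
        exact bg147_nconj hG hcyc hM hK hK1 (hK₁ L hPL).1 hQK hQp hL'c hN (Ne.symm hne) g hg
    · rintro ⟨L, hL⟩ ⟨L', hL'⟩ hjk
      have hne : L ≠ L' := fun h => hjk (Subtype.ext h)
      change L ⊓ L' = _
      rcases hL with h | hPL <;> rcases hL' with h' | hPL'
      · exact absurd (h.trans h'.symm) hne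
      · rw [h]
        exact (hK₁ L' hPL').1.inf_eq
      · rw [h', inf_comm]
        exact (hK₁ L hPL).1.inf_eq
      · obtain ⟨hp, hneK⟩ := hK₁ L hPL
        obtain ⟨hL'c, Q, hQK, hQp, hN⟩ := hPL'
        have hQσ : ¬ Q ≤ sigmaCore L := fun hQL =>
          hne (bg147_eq_of_le_sigma hG hcyc hM hK hK1 hp hQK hQp hQL hL'c
            ((Subgroup.centralizer_le_normalizer _).trans hN)).symm
        have hQZ : Q ≤ K₁ L ⊔ (sigmaCore L ⊓ centralizer (K₁ L : Set G)) := by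
          rw [hp.sup_eq]
          exact hQK.trans le_sup_left
        have hQK₁ : Q ≤ K₁ L :=
          (bg147_prime_sub hp.hall hQZ hQp).resolve_right (fun h => hQσ (h.trans inf_le_left))
        have hK₁ne : K₁ L ≠ ⊥ := by
          intro h
          apply hneK
          rw [h, inf_bot_eq]
        obtain ⟨-, K₂, hp2⟩ := bg147_pair hG hcyc hp.coatom hp.hall hK₁ne hQK₁ hQp hL'c hN
        rw [hp2.inf_eq, hp.sup_eq]
    · intro q hq hqZ
      rcases bg147_prime_mem hG hM hK hKc hK1 q hq hqZ with h | ⟨Q, L, hQK, hQp, hL, hN, hqL⟩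
      · exact ⟨⟨M, Or.inl rfl⟩, h⟩
      · exact ⟨⟨L, Or.inr ⟨hL, Q, hQK, hQp, hN⟩⟩, hqL⟩
    · rintro ⟨L, hL⟩ m hm
      obtain ⟨Kj, hprod, hKjZ, -, -⟩ := hUbot L hL
      obtain ⟨n, hn, k, hk, rfl⟩ := hprod m hm
      exact ⟨n, hn, k, hKjZ hk, rfl⟩
    · rintro ⟨L, hL⟩ d hd hd1
      obtain ⟨Kj, -, -, -, hgood⟩ := hUbot L hL
      exact hgood d hd hd1
    · rintro ⟨L, hL⟩ hle
      change sigmaCore L ≤ _ at hle
      obtain ⟨Kj, hprod, hKjZ, hco, -⟩ := hUbot L hL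
      have hLZ : L ≤ K ⊔ (sigmaCore M ⊓ centralizer (K : Set G)) := by
        intro m hm
        obtain ⟨n, hn, k, hk, rfl⟩ := hprod m hm
        exact Subgroup.mul_mem _ (hle hn) (hKjZ hk)
      have hex : ∃ L' : Subgroup G, (L' = M ∨ P L') ∧ L' ≠ L := by
        by_cases h : L = M
        · exact ⟨L₀, Or.inr hP₀, fun h' => hPM L₀ hP₀ (h'.trans h)⟩
        · exact ⟨M, Or.inl rfl, fun h' => h h'.symm⟩
      obtain ⟨L', hL', hne⟩ := hex
      obtain ⟨_, -, -, hco', -⟩ := hUbot L' hL'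
      exact hne (Cfsg.Agent.Helper23.uq_eq_of_coatom_le hco hco'.1 (hLZ.trans (hZle L' hL')))
  exact hstar ι (fun j : ι => j.1) _ hfam ⟨M, Or.inl rfl⟩ ⟨L₀, Or.inr hP₀⟩
    (fun h => hPM L₀ hP₀ (congrArg Subtype.val h).symm)

/-- **Row S1366**, conditional on S1351 and the (STAR) count. -/
theorem bg147_1366 (hG : IsMinSimpleOddOrder G) (hcyc : Cyc51 G) (hstar : StarCount G)
    (M : Subgroup G) (hM : IsCoatom M) (K U : Subgroup G) (hKU : IsSigmaDecomposition M K U)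
    (hK1 : K ≠ ⊥) :
    ∃! Mstar : Subgroup G, IsCoatom Mstar ∧
      K = sigmaCore Mstar ⊓
        centralizer ((sigmaCore M ⊓ centralizer (K : Set G) : Subgroup G) : Set G) ∧
      IsPiHallOf (kappa Mstar) (sigmaCore M ⊓ centralizer (K : Set G)) Mstar := by
  obtain ⟨Ms, hMs, h1, h2⟩ := bg147_exists hG hcyc hstar hM hKU hK1
  refine ⟨Ms, ⟨hMs, h1, h2⟩, ?_⟩
  rintro Ms' ⟨hMs', h1', h2'⟩
  obtain ⟨X, hXK, hXp⟩ := bg147_exists_prime_sub hK1
  have ha := (Cfsg.Agent.S1367.result hG M hM K U hKU hK1 Ms hMs h1 h2).2 X hXK hXp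
  have hb := (Cfsg.Agent.S1367.result hG M hM K U hKU hK1 Ms' hMs' h1' h2').2 X hXK hXp
  exact ha.2 Ms' hMs' hb.1

end Cfsg.Agent.Helper2
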