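/-
B&G Theorem 15.7 (row S1438), assembled from the pieces of CALL S1438
(skeleton: tools/calls/BG157Skel.lean.txt).
-/
import Mathlib
import Cfsg.Agent.S1351
import Cfsg.Agent.S1352
import Cfsg.Agent.Helper23.Uniq
import Cfsg.Agent.Helper47.BG14RK
import Cfsg.Agent.Helper68.BG14R30
import Cfsg.Agent.Helper91.BG157AB
import Cfsg.Agent.Helper4.BG157BF
import Cfsg.Agent.Helper47.BG157CC
import Cfsg.Agent.Helper39.BG157CV
import Cfsg.Agent.Helper91.BG157CX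
import Cfsg.Agent.Helper11.BG157CYC
import Cfsg.Agent.Helper39.BG157FU1
import Cfsg.Agent.Helper47.BG157FU3
import Cfsg.Agent.Helper47.BG157FU4
import Cfsg.Agent.Helper78.BG157HC
import Cfsg.Agent.Helper22.BG157HK
import Cfsg.Agent.Helper23.BG157KAP
import Cfsg.Agent.Helper22.BG157NE
import Cfsg.Agent.Helper23.BG157NK
import Cfsg.Agent.Helper8.BG157ST

set_option autoImplicit false

namespace Cfsg.Agent.Helper2

open Cfsg Subgroup

universe u

variable {G : Type u} [Group G] [Finite G]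

/-- pure fusion theorem -/
theorem bg157_fusion {Γ : Type u} [Group Γ] [Finite Γ] [Group.IsSolvable Γ]
    {F S H : Subgroup Γ} [F.Normal] [S.Normal] (hFS : F ≤ S) (hF : Group.IsNilpotent ↥F)
    (hSF : Group.IsNilpotent ↥(S.map (QuotientGroup.mk' F))) (hHS : H ≤ S)
    (hHall : (Nat.card H).Coprime (H.relIndex S)) {x m : Γ} (hx : x ∈ H)
    (hm : m * x * m⁻¹ ∈ H) :
    ∃ n ∈ normalizer (H : Set Γ), n * x * n⁻¹ = m * x * m⁻¹ :=
  Cfsg.Agent.Helper47.bg157_fusion_red hFS hHS hHall (fun m h hh => Cfsg.Agent.Helper39.bg157_sup_normal hFS hSF hHS hHall m hh)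
    (fun z hz f hf hfz => Cfsg.Agent.Helper47.bg157_fusion_F hFS hF hHS hHall
      (Cfsg.Agent.Helper47.bg157_coprime_closure hF (Nat.card H) Nat.card_pos) hz hf hfz) hx hm

/-- 15.7(b) from the structure of row S1355 -/
theorem bg157_b (hG : IsMinSimpleOddOrder G) {M H : Subgroup G} (hM : IsCoatom M)
    (h1 : fittingHallOf M ≤ sigmaCore M) (h2 : sigmaCore M ≤ ⁅M, M⁆)
    (h3 : Group.IsNilpotent ↥((commutator ↥M).map (QuotientGroup.mk' (fittingHall ↥M))))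
    (hH : H ≤ sigmaCore M) (hHall : (Nat.card H).Coprime (H.relIndex (sigmaCore M))) :
    ∀ x ∈ H, ∀ g : G, g * x * g⁻¹ ∈ H →
      ∃ n ∈ M ⊓ normalizer (H : Set G), n * x * n⁻¹ = g * x * g⁻¹ := by
  obtain ⟨hFS, hF, hSF⟩ := Cfsg.Agent.Helper8.bg157_struct h1 h2 h3
  obtain ⟨hHS, hHall'⟩ := Cfsg.Agent.Helper39.bg157_conv hH hHall
  haveI : Group.IsSolvable ↥M := Cfsg.Agent.Helper23.uq_isSolvable hG hM.1
  exact Cfsg.Agent.Helper4.bg157_b_of_fusion hG hM hH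
    (fun x m hx hm => bg157_fusion hFS hF hSF hHS hHall' hx hm)

/-- 15.7(a) -/
theorem bg157_a (hG : IsMinSimpleOddOrder G) {M H : Subgroup G} (hM : IsCoatom M)
    (hH : H ≤ sigmaCore M) (hH1 : H ≠ ⊥)
    (hHall : (Nat.card H).Coprime (H.relIndex (sigmaCore M))) :
    ∃ X : Subgroup G, IsCyclic X ∧ (∀ p : ℕ, p.Prime → p ∣ Nat.card X → p ∈ tau2 M) ∧
      M ⊓ centralizer (H : Set G) = (sigmaCore M ⊓ centralizer (H : Set G)) ⊔ X := by
  classical
  obtain ⟨X, hXC, hXeq, hXσ⟩ := Cfsg.Agent.Helper91.bg157_compl hG hM H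
  have hXM : X ≤ M := hXC.trans inf_le_left
  have hXH : X ≤ centralizer (H : Set G) := hXC.trans inf_le_right
  obtain ⟨y₀, hy₀⟩ := Subgroup.ne_bot_iff_exists_ne_one.mp hH1
  have hy1 : (y₀ : G) ≠ 1 := fun e => hy₀ (Subtype.ext e)
  have hτ : ∀ p : ℕ, p.Prime → p ∣ Nat.card X → p ∈ tau2 M := by
    intro p hp hpX
    by_contra h2
    haveI := Fact.mk hp
    obtain ⟨x, hx⟩ := exists_prime_orderOf_dvd_card' (G := ↥X) p hpX
    have hxo : orderOf (x : G) = p := by rw [Subgroup.orderOf_coe]; exact hx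
    have hx1 : (x : G) ≠ 1 := by
      intro e
      rw [e, orderOf_one] at hxo
      exact hp.one_lt.ne hxo
    have hcomm : (x : G) * (y₀ : G) = (y₀ : G) * (x : G) :=
      ((Subgroup.mem_centralizer_iff.mp (hXH x.2)) (y₀ : G) y₀.2).symm
    have hκ : p ∈ kappa M :=
      Cfsg.Agent.Helper23.bg157_mem_kappa hG hM hp (hXσ p hp hpX) h2 (hXM x.2) hxo (hH y₀.2) hy1 hcomm
    obtain ⟨K, hK, hxK⟩ := Cfsg.Agent.Helper22.bg157_hall_contains hG hM (kappa M) (X := zpowers (x : G))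
      ((zpowers_le).mpr (hXM x.2)) (by
        intro q hq hqd
        rw [Nat.card_zpowers, hxo] at hqd
        rw [(Nat.prime_dvd_prime_iff_eq hq hp).mp hqd]
        exact hκ)
    exact Cfsg.Agent.Helper23.bg157_not_kappa hG hM hH hH1 hHall hK (hxK (mem_zpowers _)) hx1 (hXH x.2)
  refine ⟨X, ?_, hτ, hXeq⟩
  obtain ⟨⟨K, hK⟩, hKc⟩ := Cfsg.Agent.S1351.result hG M hM
  obtain ⟨⟨U, hKU⟩, -⟩ := Cfsg.Agent.S1352.result hG M hM K (hKc K hK) hK
  have hUh := Cfsg.Agent.Helper68.bg14r_U_hall hG hM hKU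
  obtain ⟨m, hm, hXU⟩ := Cfsg.Agent.Helper78.bg157_hall_conj hG hM hUh hXM (by
    intro q hq hqd
    have h2 := hτ q hq hqd
    exact ⟨hq, fun hκ => h2.2.2.2 (Cfsg.Agent.Helper47.bg14_rank_of_kappa hκ), h2.2.1⟩)
  have hab : IsMulCommutative X := Cfsg.Agent.Helper91.bg157_abelian hG hM hKU hH hH1 hXM hXH hm hXU
  exact Cfsg.Agent.Helper11.bg157_cyclic_of hG.1 hab (fun r A hr hAX hAc hAe =>
    Cfsg.Agent.Helper22.bg157_no_rank2 hG hM hH hH1
      (hτ r hr ((dvd_pow_self r (by norm_num : (2:ℕ) ≠ 0)).trans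
        (hAc ▸ Subgroup.card_dvd_of_le hAX)))
      (hAX.trans hXM) (hAX.trans hXH) hAc hAe)

/-- B&G Theorem 15.7, from the structure of row S1355. -/
theorem bg157_main (hG : IsMinSimpleOddOrder G) (M : Subgroup G) (hM : IsCoatom M)
    (h1 : fittingHallOf M ≤ sigmaCore M) (h2 : sigmaCore M ≤ ⁅M, M⁆)
    (h3 : Group.IsNilpotent ↥((commutator ↥M).map (QuotientGroup.mk' (fittingHall ↥M))))
    (H : Subgroup G) (hH : H ≤ sigmaCore M) (hH1 : H ≠ ⊥)
    (hHall : (Nat.card H).Coprime (H.relIndex (sigmaCore M))) :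
    (∃ X : Subgroup G, IsCyclic X ∧ (∀ p : ℕ, p.Prime → p ∣ Nat.card X → p ∈ tau2 M) ∧
        M ⊓ centralizer (H : Set G) = (sigmaCore M ⊓ centralizer (H : Set G)) ⊔ X) ∧
      ∀ x ∈ H, ∀ g : G, g * x * g⁻¹ ∈ H →
        ∃ n ∈ M ⊓ normalizer (H : Set G), n * x * n⁻¹ = g * x * g⁻¹ :=
  ⟨bg157_a hG hM hH hH1 hHall, bg157_b hG hM h1 h2 h3 hH hHall⟩

end Cfsg.Agent.Helper2
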