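/-
CALL S1437 (helper2), piece T0 (double): `M_F ≠ M_σ` forces `U = 1` and `K ≠ 1`.
-/
import Mathlib
import Cfsg.Agent.S1355
import Cfsg.Agent.S1429
import Cfsg.Agent.Helper31.BGCFHb
import Cfsg.Agent.Helper68.BG14R30

set_option autoImplicit false

namespace Cfsg.Agent.Helper2

open Cfsg Subgroup

universe u

variable {G : Type u} [Group G] [Finite G]

/-- T0. `M_F ≠ M_σ` forces `U = 1`, `K ≠ 1`. -/
theorem bg15b_KU (hG : IsMinSimpleOddOrder G) {M K U : Subgroup G} (hM : IsCoatom M)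
    (hKU : IsSigmaDecomposition M K U) (hne : fittingHallOf M ≠ sigmaCore M) :
    U = ⊥ ∧ K ≠ ⊥ := by
  classical
  have h55 := Cfsg.Agent.S1355.result hG M hM
  -- all primes of `|M|` lie in `σ ∪ κ`
  have hall : ∀ q : ℕ, q.Prime → q ∣ Nat.card M → q ∉ sigma M → q ∈ kappa M := by
    by_contra hP1
    have hP1' := hP1
    push_neg at hP1
    obtain ⟨p, hp, hpM, hpσ, hpκ⟩ := hP1
    haveI := Fact.mk hp
    obtain ⟨S⟩ : Nonempty (Sylow p M) := inferInstance
    have hnil := (Cfsg.Agent.S1429.result hG M hM hP1' p hpM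
      (by rintro (h | h); exacts [hpσ h, hpκ h]) S).2.2
    exact hne (le_antisymm h55.2.1
      (Cfsg.Agent.Helper31.bgc_sigmaCore_le_fittingHall hG hM hnil))
  have hUh := Cfsg.Agent.Helper68.bg14r_U_hall hG hM hKU
  have hUM : U ≤ M := hKU.compl.1
  have hU : U = ⊥ := by
    rw [← Subgroup.card_eq_one]
    by_contra h1
    obtain ⟨p, hp, hpd⟩ := Nat.exists_prime_and_dvd h1
    have hπ := hUh.2.1 p hp hpd
    exact hπ.2.1 (hall p hp (hpd.trans (Subgroup.card_dvd_of_le hUM)) hπ.2.2)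
  refine ⟨hU, ?_⟩
  intro hK
  -- `M = M_σ`, against `M_σ ≤ M' < M`
  have hMS : M ≤ sigmaCore M := by
    intro m hm
    obtain ⟨a, ha, b, hb, rfl⟩ := hKU.compl.2.2.2 m hm
    rw [hU, Subgroup.mem_bot] at ha
    rw [hK, bot_sup_eq] at hb
    rw [ha, one_mul]
    exact hb
  exact (lt_irrefl _ (lt_of_le_of_lt (hMS.trans h55.2.2.1) h55.2.2.2.1))

end Cfsg.Agent.Helper2
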