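/-
B&G Theorem 15.2, non-nilpotent case (statement S1437): assembly of the CALL S1437 pieces.
-/
import Mathlib
import Cfsg.Agent.S1355
import Cfsg.Agent.S1364
import Cfsg.Agent.S1373
import Cfsg.Agent.Helper23.Uniq
import Cfsg.Agent.Helper23.Trans
import Cfsg.Agent.Helper31.BGCFHb
import Cfsg.Agent.Helper2.BG15bT0
import Cfsg.Agent.Helper20.BG15bDER
import Cfsg.Agent.Helper20.BG15bDN
import Cfsg.Agent.Helper62.BG15bQX
import Cfsg.Agent.Helper47.BG15bDX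
import Cfsg.Agent.Helper47.BG15bBETA
import Cfsg.Agent.Helper91.BG15bCJ
import Cfsg.Agent.Helper91.BG15bNIL
import Cfsg.Agent.Helper91.BG15bCNT
import Cfsg.Agent.Helper78.BG15bNIC
import Cfsg.Agent.Helper78.BG15bNOC
import Cfsg.Agent.Helper78.BG15bMN
import Cfsg.Agent.Helper92.BG15bCORE1
import Cfsg.Agent.Helper92.BG15bCORE2
import Cfsg.Agent.Helper10.BG15bFR
import Cfsg.Agent.Helper46.BG15bNC
import Cfsg.Agent.Helper46.BG15bCOMM

set_option autoImplicit false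

namespace Cfsg.Agent.Helper2

open Cfsg Subgroup

universe u

variable {G : Type u} [Group G] [Finite G]

/-- B&G Theorem 15.2 in the case `M_F ≠ M_σ` (statement S1437). -/
theorem bg15b_main (hG : IsMinSimpleOddOrder G) (M : Subgroup G) (hM : IsCoatom M)
    (K U : Subgroup G) (hKU : IsSigmaDecomposition M K U)
    (hne : fittingHallOf M ≠ sigmaCore M) :
    U = ⊥ ∧ sigmaCore M = ⁅M, M⁆ ∧ (Nat.card K).Prime ∧
      (Nat.card ↥(sigmaCore M ⊓ centralizer (K : Set G))).Prime ∧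
      Nat.card ↥(sigmaCore M ⊓ centralizer (K : Set G)) ∣ Nat.card (fittingHallOf M) ∧
      Nat.card ↥(sigmaCore M ⊓ centralizer (K : Set G)) ∈ beta M ∧
      ∃ Q : Subgroup G, Q ≤ fittingHallOf M ∧ M ≤ normalizer (Q : Set G) ∧
        IsPGroup (Nat.card ↥(sigmaCore M ⊓ centralizer (K : Set G))) Q ∧
        ¬ Nat.card ↥(sigmaCore M ⊓ centralizer (K : Set G)) ∣ Q.relIndex (sigmaCore M) ∧
        ∀ D : Subgroup G, IsComplIn Q D (sigmaCore M) →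
          Group.IsNilpotent D ∧
          M ≤ normalizer ((Q ⊓ centralizer (D : Set G) : Subgroup G) : Set G) ∧
          Q ⊓ centralizer (D : Set G) < Q ∧
          Nat.card Q = Nat.card ↥(Q ⊓ centralizer (D : Set G)) *
            Nat.card ↥(sigmaCore M ⊓ centralizer (K : Set G)) ^ Nat.card K ∧
          (∀ a ∈ Q, ∀ b ∈ Q,
            a ^ Nat.card ↥(sigmaCore M ⊓ centralizer (K : Set G)) ∈ Q ⊓ centralizer (D : Set G) ∧
            a * b * a⁻¹ * b⁻¹ ∈ Q ⊓ centralizer (D : Set G)) ∧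
          ∀ N : Subgroup G, Q ⊓ centralizer (D : Set G) < N → N < Q →
            ¬ M ≤ normalizer (N : Set G) := by
  classical
  obtain ⟨hU, hK1⟩ := bg15b_KU hG hM hKU hne
  have hder := Cfsg.Agent.Helper20.bg15b_der hG hM hKU hU
  have hprime := Cfsg.Agent.S1373.result hG M hM K U hKU hK1 hU
  have h55 := Cfsg.Agent.S1355.result hG M hM
  have h64 := Cfsg.Agent.S1364.result hG M hM K U hKU hK1
  have hSM : sigmaCore M ≤ M := Cfsg.Agent.Helper23.piCoreOf_le (sigma M) M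
  have hSn : M ≤ normalizer (sigmaCore M : Set G) :=
    Cfsg.Agent.Helper23.le_normalizer_piCoreOf (sigma M) M
  have hKM : K ≤ M := hKU.hall.1
  have hnn : ¬ Group.IsNilpotent ↥(sigmaCore M) := fun h =>
    hne (le_antisymm h55.2.1 (Cfsg.Agent.Helper31.bgc_sigmaCore_le_fittingHall hG hM h))
  obtain ⟨Q, hQF, hQS, hQn, hQq, hQi, hKsQ⟩ := Cfsg.Agent.Helper62.bg15b_exists_Q hG hM hKU hK1 hU
  have hKs1 : sigmaCore M ⊓ centralizer (K : Set G) ≠ ⊥ := h64.2.1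
  have hQ1 : Q ≠ ⊥ := fun h => hKs1 (le_bot_iff.mp (h ▸ hKsQ))
  obtain ⟨D₀, hD₀, hKD⟩ := Cfsg.Agent.Helper47.bg15b_exists_D hG hM hKU hQS hprime hQq hQi hQ1
  have hD₀n := Cfsg.Agent.Helper20.bg15b_D0_nilpotent hG hM hKU hK1 hKsQ hD₀ hKD
  have hcj : ∀ D : Subgroup G, IsComplIn Q D (sigmaCore M) →
      ∃ u ∈ sigmaCore M, D = D₀.map (MulAut.conj u).toMonoidHom :=
    fun D hD => Cfsg.Agent.Helper91.bg15b_compl_conj hG hM hprime hQq hQi hD hD₀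
  have hnc : ¬ Q ≤ centralizer (D₀ : Set G) := fun h =>
    hnn (Cfsg.Agent.Helper91.bg15b_nilpotent_of_comm hprime hQq hD₀n hD₀ h)
  have hQ₁ne : Q ⊓ centralizer (D₀ : Set G) ≠ Q := fun h => hnc (inf_eq_left.mp h)
  have hD1 : D₀ ≠ ⊥ := by
    rintro rfl
    apply hnc
    intro x _
    rw [Subgroup.mem_centralizer_iff]
    intro y hy
    have hy1 : y = 1 := Subgroup.mem_bot.mp hy
    rw [hy1, one_mul, mul_one]
  have hD₀M : D₀ ≤ M := hD₀.2.1.trans hSM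
  have hD₀Q : D₀ ≤ normalizer (Q : Set G) := hD₀M.trans hQn
  have hKQ : K ≤ normalizer (Q : Set G) := hKM.trans hQn
  have hD₀Q₁ : D₀ ≤ normalizer ((Q ⊓ centralizer (D₀ : Set G) : Subgroup G) : Set G) :=
    fun d hd => Cfsg.Agent.Helper78.bg15b_norm_inf_cent (hD₀Q hd) (le_normalizer hd)
  have hKQ₁ : K ≤ normalizer ((Q ⊓ centralizer (D₀ : Set G) : Subgroup G) : Set G) :=
    fun k hk => Cfsg.Agent.Helper78.bg15b_norm_inf_cent (hKQ hk) (hKD hk)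
  have hcnt : ∀ Y K₀ : Subgroup G, Y ≤ Q →
      (D₀ ≤ normalizer (Y : Set G) ∧ K ≤ normalizer (Y : Set G)) → K₀ ≤ K → K₀ ≠ ⊥ →
      Nat.card ↥(Y ⊓ (Q ⊓ centralizer (D₀ : Set G)) ⊓ (sigmaCore M ⊓ centralizer (K : Set G))) ^
          Nat.card K₀ * Nat.card Y =
        Nat.card ↥(Y ⊓ (sigmaCore M ⊓ centralizer (K : Set G))) ^ Nat.card K₀ *
          Nat.card ↥(Y ⊓ (Q ⊓ centralizer (D₀ : Set G))) :=
    fun Y K₀ hYQ hYn hK₀ hK₀1 =>
      Cfsg.Agent.Helper91.bg15b_count hG hM hKU hK1 hprime hQq hQi hKsQ hD₀ hD1 hKD Y K₀ hYQ hYn hK₀ hK₀1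
  obtain ⟨hdisj, hcard, hKp⟩ := Cfsg.Agent.Helper92.bg15b_core_card hprime hKsQ inf_le_left hK1 hQ₁ne
    (fun Y : Subgroup G => D₀ ≤ normalizer (Y : Set G) ∧ K ≤ normalizer (Y : Set G))
    ⟨hD₀Q, hKQ⟩ hcnt
  have hdich := Cfsg.Agent.Helper92.bg15b_core_dich hprime hKsQ inf_le_left hK1 hQ₁ne
    (fun Y : Subgroup G => D₀ ≤ normalizer (Y : Set G) ∧ K ≤ normalizer (Y : Set G))
    ⟨hD₀Q, hKQ⟩ hcnt hdisj hcard
  have hfr := Cfsg.Agent.Helper10.bg15b_frat hprime hQq inf_le_left hQ₁ne (fun N hN h1 h2 =>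
    hdich N ⟨fun d hd => hN d (hD₀Q hd) (hD₀Q₁ hd), fun k hk => hN k (hKQ hk) (hKQ₁ hk)⟩ h1 h2)
  have hQQ₁ := Cfsg.Agent.Helper78.bg15b_norm_of_comm (inf_le_left : Q ⊓ centralizer (D₀ : Set G) ≤ Q)
    (fun a ha b hb => (hfr a ha b hb).2)
  obtain ⟨hMn, hceq⟩ := Cfsg.Agent.Helper78.bg15b_M_norm hD₀ hQn hSn hSM hcj hQQ₁
  have hnilD : ∀ D : Subgroup G, IsComplIn Q D (sigmaCore M) → Group.IsNilpotent ↥D :=
    fun D hD => by
      obtain ⟨u, -, hu⟩ := hcj D hD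
      exact Cfsg.Agent.Helper46.bg15b_nilpotent_conj hu hD₀n
  have hqM : Nat.card ↥(sigmaCore M ⊓ centralizer (K : Set G)) ∣ Nat.card M :=
    Subgroup.card_dvd_of_le (inf_le_left.trans hSM)
  have hβ : Nat.card ↥(sigmaCore M ⊓ centralizer (K : Set G)) ∈ beta M := by
    by_contra hβ
    obtain ⟨D', hD', hD'n⟩ := Cfsg.Agent.Helper47.bg15b_normal_compl hG hM hQS hprime hQq hQi hqM hβ
    have hc := Cfsg.Agent.Helper46.bg15b_comm_of_normal hQS hD'.2.1 (hSM.trans hQn) hD'n hD'.2.2.1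
    exact hnn (Cfsg.Agent.Helper91.bg15b_nilpotent_of_comm hprime hQq (hnilD D' hD') hD' hc)
  refine ⟨hU, hder, hKp, hprime, Subgroup.card_dvd_of_le h64.2.2.1, hβ, Q, hQF, hQn, hQq, hQi,
    fun D hD => ?_⟩
  rw [hceq D hD]
  refine ⟨hnilD D hD, hMn, lt_of_le_of_ne inf_le_left hQ₁ne, hcard, hfr, fun N h1 h2 hN => ?_⟩
  rcases hdich N ⟨hD₀M.trans hN, hKM.trans hN⟩ h1.le h2.le with h | h
  · exact h1.ne' h
  · exact h2.ne h

end Cfsg.Agent.Helper2
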