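/-
helper2: piece TAU2A of CALL S1435 (helper23), double.
-/
import Cfsg.Agent.Helper23.BG65Defs
import Cfsg.Agent.Helper22.BG10c
import Cfsg.Agent.Helper34.BG1210P4c
import Cfsg.Agent.S1417
import Cfsg.Agent.S1418

set_option autoImplicit false

namespace Cfsg.Agent.Helper2

open Cfsg Subgroup

universe u

variable {G : Type u} [Group G] [Finite G]

/-- TAU2A. For `r ∈ τ₂(H)` and a complement `E` of `H_σ`: the elementary abelian subgroup
`A ≤ E` of order `r²`, with its properties from S1417 and S1418. -/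
theorem bg65_tau2_A (hG : IsMinSimpleOddOrder G) {H E : Subgroup G} (hH : IsCoatom H)
    (hE : IsComplIn E (sigmaCore H) H) {r : ℕ} (hr : r ∈ tau2 H) :
    ∃ A : Subgroup G, A ≤ E ∧ Nat.card A = r ^ 2 ∧ E ≤ normalizer (A : Set G) ∧
      (∀ a ∈ A, ∀ b ∈ A, a * b = b * a) ∧ (∀ a ∈ A, a ^ r = 1) ∧
      (∀ x ∈ E, orderOf x = r → x ∈ A) ∧ sigmaCore H ⊓ centralizer (A : Set G) = ⊥ := by
  classical
  have hrp : r.Prime := hr.1
  have hrσ : r ∉ sigma H := hr.2.1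
  have hr1 : ¬ PRankLE r 1 ↥H := hr.2.2.2
  haveI := Fact.mk hrp
  obtain ⟨A₀, hA₀H, hA₀c, hA₀e, hA₀card⟩ := Cfsg.Agent.Helper22.bg10_exists_elemAb_sq hrp hr1
  have hA₀p : IsPGroup r A₀ := fun b => ⟨1, by
    rw [pow_one]
    exact Subtype.ext (by simpa using hA₀e b b.2)⟩
  obtain ⟨g, hgH, hg⟩ := Cfsg.Agent.Helper34.bg1210_conj_into_compl hE hrσ hA₀H hA₀p
  obtain ⟨A, hAdef⟩ : ∃ A : Subgroup G, A = A₀.map (MulAut.conj g).toMonoidHom := ⟨_, rfl⟩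
  have hAE : A ≤ E := by
    rw [hAdef]
    rintro _ ⟨x, hx, rfl⟩
    simpa [MulAut.conj_apply] using hg x hx
  have hAcard : Nat.card A = r ^ 2 := by
    rw [hAdef, ← hA₀card]
    exact Subgroup.card_map_of_injective (MulEquiv.injective _)
  have hAc : ∀ a ∈ A, ∀ b ∈ A, a * b = b * a := by
    rw [hAdef]
    rintro _ ⟨x, hx, rfl⟩ _ ⟨y, hy, rfl⟩
    rw [← map_mul, ← map_mul, hA₀c x hx y hy]
  have hAe : ∀ a ∈ A, a ^ r = 1 := by
    rw [hAdef]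
    rintro _ ⟨x, hx, rfl⟩
    rw [← map_pow, hA₀e x hx, map_one]
  have hAel : IsElementaryAbelian r A :=
    ⟨⟨⟨fun a b => Subtype.ext (hAc a a.2 b b.2)⟩⟩, hAe⟩
  have h18 := Cfsg.Agent.S1418.result hG H hH E hE r hr A ⟨hAE, hAel, hAcard⟩
  have h17 := Cfsg.Agent.S1417.result hG H hH r hr A ⟨hAE.trans hE.1, hAel, hAcard⟩
  refine ⟨A, hAE, hAcard, h18.1.1, hAc, hAe, fun x hx hxr => ?_, h17.2.2.2.1⟩
  have hz : zpowers x ≤ A :=
    h18.1.2 (zpowers x) ((zpowers_le).mpr hx) (by rw [Nat.card_zpowers, hxr])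
  exact hz (mem_zpowers x)

end Cfsg.Agent.Helper2
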