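/-
helper2: piece EXB of CALL BG17 (helper25; row S1381), double.
-/
import Cfsg.Agent.Helper42.BG17EXA
import Cfsg.Agent.Helper23.Uniq
import Cfsg.Agent.S1363

set_option autoImplicit false

namespace Cfsg.Agent.Helper2

open Cfsg Subgroup

universe u

variable {G : Type u} [Group G] [Finite G]

/-- EXB. If `N_G(U)` normalizes `<w>`, `w ∈ U#`, then `w` has no fixed point `≠ 1` on `M_σ`. -/
theorem bg17_char_fpf (hG : IsMinSimpleOddOrder G) {M K U : Subgroup G} (hM : IsCoatom M)
    (hKU : IsSigmaDecomposition M K U) (hK1 : K ≠ ⊥) {w : G} (hw : w ∈ U) (hw1 : w ≠ 1)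
    (hN : normalizer (U : Set G) ≤ normalizer ((zpowers w : Subgroup G) : Set G)) :
    ∀ x ∈ sigmaCore M, w * x = x * w → x = 1 := by
  intro x hx hwx
  by_contra hx1
  obtain ⟨-, hCM, huniq⟩ := Cfsg.Agent.Helper42.bg17_fix_tau2 hG hM hKU hw hw1 hx hx1 hwx
  have hUM : U ≤ M := hKU.compl.1
  have hZ1 : zpowers w ≠ ⊥ := by
    intro h
    have h1 := mem_zpowers w
    rw [h] at h1
    exact hw1 (Subgroup.mem_bot.mp h1)
  have hZ2 : zpowers w ≠ ⊤ := fun h2 =>
    hM.1 (top_le_iff.mp (h2 ▸ ((zpowers_le.mpr hw).trans hUM)))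
  haveI := hG.2.1
  have hNZ : normalizer ((zpowers w : Subgroup G) : Set G) ≠ ⊤ :=
    Cfsg.Agent.Helper23.normalizer_ne_top_of_simple hZ1 hZ2
  obtain ⟨L, hL, hNL⟩ := Cfsg.Agent.Helper23.uq_exists_coatom_ge hNZ
  have hCN : centralizer ({w} : Set G) ≤ normalizer ((zpowers w : Subgroup G) : Set G) := by
    intro c hc
    have hcw : w * c = c * w := mem_centralizer_iff.mp hc w (Set.mem_singleton w)
    have key : ∀ h ∈ zpowers w, c * h * c⁻¹ = h := by
      intro h hh
      obtain ⟨n, rfl⟩ := Subgroup.mem_zpowers_iff.mp hh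
      have hcomm : Commute c w := hcw.symm
      rw [(hcomm.zpow_right n).eq, mul_inv_cancel_right]
    rw [mem_normalizer_iff]
    intro h
    constructor
    · intro hh
      rw [key h hh]
      exact hh
    · intro hh
      have h2 := key _ hh
      have h3 : c * h * c⁻¹ = h := by
        calc c * h * c⁻¹ = c⁻¹ * (c * (c * h * c⁻¹) * c⁻¹) * c := by group
          _ = c⁻¹ * (c * h * c⁻¹) * c := by rw [h2]
          _ = h := by group
      rw [← h3]
      exact hh
  have hLM : L = M := huniq L hL (hCN.trans hNL)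
  exact (Cfsg.Agent.S1363.result hG M hM K U hKU hK1).2 (hN.trans (hLM ▸ hNL))

end Cfsg.Agent.Helper2
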