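/-
helper2: piece FE2 of CALL BG17 (helper25; row S1381), double.
-/
import Cfsg.Agent.Helper24.BG11b
import Cfsg.Agent.Helper1.BGUniqA
import Cfsg.Agent.Helper23.Trans
import Cfsg.Agent.S1403
import Cfsg.Agent.S1438

set_option autoImplicit false

namespace Cfsg.Agent.Helper2

open Cfsg Subgroup

universe u

variable {G : Type u} [Group G] [Finite G]

/-- FE2. `C_M(M_σ) ≤ F(M)`. -/
theorem bg17_cent_le_fitting (hG : IsMinSimpleOddOrder G) {M : Subgroup G} (hM : IsCoatom M) :
    M ⊓ centralizer (sigmaCore M : Set G) ≤ fittingOf M := by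
  classical
  have hU : Cfsg.Agent.Helper22.BGUniq G :=
    fun K hK h1 h2 => Cfsg.Agent.S1403.result hG K hK h1 h2
  have hS1 : sigmaCore M ≠ ⊥ := Cfsg.Agent.Helper24.bg11b_sigmaCore_ne_bot hG hU hM
  have hSn : M ≤ normalizer (sigmaCore M : Set G) :=
    Cfsg.Agent.Helper23.le_normalizer_piCoreOf (sigma M) M
  obtain ⟨⟨X, hXc, -, hX⟩, -⟩ := Cfsg.Agent.S1438.result hG M hM (sigmaCore M) le_rfl hS1
    (by rw [Subgroup.relIndex_self]; exact Nat.coprime_one_right _)
  obtain ⟨C, hC⟩ : ∃ C : Subgroup G, C = M ⊓ centralizer (sigmaCore M : Set G) := ⟨_, rfl⟩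
  rw [← hC] at hX ⊢
  obtain ⟨Z, hZ⟩ : ∃ Z : Subgroup G, Z = sigmaCore M ⊓ centralizer (sigmaCore M : Set G) :=
    ⟨_, rfl⟩
  rw [← hZ] at hX
  have hZS : Z ≤ sigmaCore M := hZ.le.trans inf_le_left
  have hCc : C ≤ centralizer (sigmaCore M : Set G) := hC.le.trans inf_le_right
  have hCM : C ≤ M := hC.le.trans inf_le_left
  have hXC : X ≤ C := hX ▸ le_sup_right
  -- every element of `C` commutes with every element of `Z`
  have hCZ : ∀ c ∈ C, ∀ z ∈ Z, z * c = c * z :=
    fun c hc z hz => mem_centralizer_iff.mp (hCc hc) z (hZS hz)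
  have hXX : ∀ a ∈ X, ∀ b ∈ X, a * b = b * a := by
    intro a ha b hb
    haveI := hXc
    have := (IsCyclic.isMulCommutative (α := ↥X)).is_comm.comm ⟨a, ha⟩ ⟨b, hb⟩
    exact congrArg Subtype.val this
  -- `C ≤ C_G(X)`
  have hCX : C ≤ centralizer (X : Set G) := by
    rw [hX]
    apply sup_le
    · intro z hz
      rw [mem_centralizer_iff]
      intro x hx
      exact (hCZ x (hXC hx) z hz).symm
    · intro b hb
      rw [mem_centralizer_iff]
      intro a ha
      exact hXX a ha b hb
  -- `C ≤ C_G(C)`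
  have hCC : C ≤ centralizer (C : Set G) := by
    intro c hc
    have h1 : C ≤ centralizer ({c} : Set G) := by
      rw [hX]
      apply sup_le
      · intro z hz
        rw [mem_centralizer_iff]
        intro h hh
        rw [Set.mem_singleton_iff] at hh
        rw [hh]
        exact (hCZ c hc z hz).symm
      · intro x hx
        rw [mem_centralizer_iff]
        intro h hh
        rw [Set.mem_singleton_iff] at hh
        rw [hh]
        exact (mem_centralizer_iff.mp (hCX hc) x hx).symm
    rw [mem_centralizer_iff]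
    intro d hd
    exact (mem_centralizer_iff.mp (h1 hd) c (Set.mem_singleton c)).symm
  have hnil : Group.IsNilpotent ↥C := by
    refine ⟨⟨1, ?_⟩⟩
    rw [Subgroup.upperCentralSeries_one, eq_top_iff]
    intro z _
    rw [Subgroup.mem_center_iff]
    intro g
    exact Subtype.ext (mem_centralizer_iff.mp (hCC z.2) g g.2)
  -- `M` normalizes `C`
  have hMC : M ≤ normalizer (C : Set G) := by
    intro m hm
    have key : ∀ n ∈ M, ∀ c ∈ C, n * c * n⁻¹ ∈ C := by
      intro n hn c hc
      rw [hC, Subgroup.mem_inf]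
      refine ⟨M.mul_mem (M.mul_mem hn (hCM hc)) (M.inv_mem hn), ?_⟩
      rw [mem_centralizer_iff]
      intro s hs
      have hs' : n⁻¹ * s * n ∈ sigmaCore M := by
        have := (mem_normalizer_iff.mp (hSn (M.inv_mem hn)) s).mp hs
        simpa using this
      have h2 := mem_centralizer_iff.mp (hCc hc) _ hs'
      have h3 : s * (n * c * n⁻¹) = n * ((n⁻¹ * s * n) * c) * n⁻¹ := by group
      have h4 : n * c * n⁻¹ * s = n * (c * (n⁻¹ * s * n)) * n⁻¹ := by group
      rw [h3, h4, h2]
    rw [mem_normalizer_iff]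
    intro c
    refine ⟨fun hc => key m hm c hc, fun hc => ?_⟩
    have := key m⁻¹ (M.inv_mem hm) _ hc
    have h5 : m⁻¹ * (m * c * m⁻¹) * m⁻¹⁻¹ = c := by group
    rwa [h5] at this
  exact Cfsg.Agent.Helper1.bgu_le_fittingOf hCM hMC hnil

end Cfsg.Agent.Helper2
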