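/-
helper2: piece FL2 of CALL BG17 (helper25; row S1381), double.
-/
import Cfsg.Agent.Helper1.BGUniqC
import Cfsg.Agent.Helper54.BG14P
import Cfsg.Agent.Helper22.Transitivity
import Cfsg.Agent.Helper23.Uniq
import Cfsg.Agent.Helper23.Trans
import Cfsg.Agent.Helper10.BG65DNORM
import Cfsg.Agent.S1365

set_option autoImplicit false

namespace Cfsg.Agent.Helper2

open Cfsg Subgroup

universe u

variable {G : Type u} [Group G] [Finite G]

/-- FL2. `F(M) ≤ M'`, given that no non-identity element of `K` centralizes `M_σ`. -/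
theorem bg17_fitting_le_comm (hG : IsMinSimpleOddOrder G) {M K U : Subgroup G} (hM : IsCoatom M)
    (hKU : IsSigmaDecomposition M K U) (hK1 : K ≠ ⊥)
    (hnc : ∀ k ∈ K, k ≠ 1 → ¬ sigmaCore M ≤ centralizer ({k} : Set G)) :
    fittingOf M ≤ ⁅M, M⁆ := by
  classical
  have hsol : Group.IsSolvable ↥M := Cfsg.Agent.Helper23.uq_isSolvable hG hM.1
  have h65 : ⁅M, M⁆ = U ⊔ sigmaCore M := (Cfsg.Agent.S1365.result hG M hM K U hKU hK1).1
  have hKM : K ≤ M := hKU.hall.1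
  have hSM : sigmaCore M ≤ M := Cfsg.Agent.Helper23.piCoreOf_le (sigma M) M
  have hSn : M ≤ normalizer (sigmaCore M : Set G) :=
    Cfsg.Agent.Helper23.le_normalizer_piCoreOf (sigma M) M
  have hUD : U ≤ ⁅M, M⁆ := h65 ▸ le_sup_left
  have hSD : sigmaCore M ≤ ⁅M, M⁆ := h65 ▸ le_sup_right
  have hDn : M ≤ normalizer ((⁅M, M⁆ : Subgroup G) : Set G) :=
    Cfsg.Agent.Helper10.bg65_comm_norm M
  have hKcop : (Nat.card K).Coprime (K.relIndex M) :=
    Nat.coprime_of_dvd (fun q hq hqK => hKU.hall.2.2 q hq (hKU.hall.2.1 q hq hqK))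
  -- Step 1: every element of `F(M)` has order prime to `|K|`
  have hcop : ∀ x' : ↥M, x' ∈ fittingSubgroup ↥M → (orderOf x').Coprime (Nat.card K) := by
    intro x' hx'
    by_contra hnc'
    obtain ⟨p, hp, hpx, hpK⟩ := Nat.Prime.not_coprime_iff_dvd.mp hnc'
    haveI := Fact.mk hp
    have hpκ : p ∈ kappa M := hKU.hall.2.1 p hp hpK
    have hpσ : p ∉ sigma M := hpκ.2.2.1
    obtain ⟨y', hy'⟩ : ∃ y' : ↥M, y' = x' ^ (orderOf x' / p) := ⟨_, rfl⟩
    have hy'ord : orderOf y' = p := by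
      rw [hy']
      exact orderOf_pow_orderOf_div (orderOf_pos x').ne' hpx
    have hy'F : y' ∈ fittingSubgroup ↥M := by
      rw [hy']
      exact Subgroup.pow_mem _ hx' _
    have hy'P : y' ∈ Cfsg.Agent.Helper71.sylowCore p ↥M :=
      Cfsg.Agent.Helper1.bgu_mem_sylowCore_of_mem_fitting hp hy'F
        ⟨1, by rw [pow_one]; exact hy'ord⟩
    have hPn := Cfsg.Agent.Helper71.sylowCore_normal p ↥M
    have hPp := Cfsg.Agent.Helper71.sylowCore_isPGroup p ↥M
    obtain ⟨P, hP⟩ : ∃ P : Subgroup G,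
        P = (Cfsg.Agent.Helper71.sylowCore p ↥M).map M.subtype := ⟨_, rfl⟩
    have hPpG : IsPGroup p P := by
      rw [hP]
      exact hPp.map M.subtype
    have hyP : (y' : G) ∈ P := by
      rw [hP]
      exact ⟨y', hy'P, rfl⟩
    have hPM : ∀ m ∈ M, ∀ z ∈ P, m * z * m⁻¹ ∈ P := by
      intro m hm z hz
      rw [hP] at hz ⊢
      obtain ⟨z', hz', rfl⟩ := hz
      exact ⟨⟨m, hm⟩ * z' * ⟨m, hm⟩⁻¹, hPn.conj_mem z' hz' ⟨m, hm⟩, rfl⟩
    have hPS : P ⊓ sigmaCore M = ⊥ := by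
      apply Subgroup.inf_eq_bot_of_coprime
      obtain ⟨n, hn⟩ := IsPGroup.iff_card.mp hPpG
      rw [hn]
      apply Nat.Coprime.pow_left
      rw [Nat.Prime.coprime_iff_not_dvd hp]
      intro hd
      exact hpσ (Cfsg.Agent.Helper23.mem_of_dvd_card_piCoreOf (sigma M) M hp hd)
    have hcent : ∀ s ∈ sigmaCore M, (y' : G) * s = s * (y' : G) := by
      intro s hs
      have hc1 : (y' : G) * s * (y' : G)⁻¹ * s⁻¹ ∈ P := by
        have h1 : s * (y' : G)⁻¹ * s⁻¹ ∈ P := hPM s (hSM hs) _ (P.inv_mem hyP)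
        have h2 : (y' : G) * s * (y' : G)⁻¹ * s⁻¹ = (y' : G) * (s * (y' : G)⁻¹ * s⁻¹) := by
          group
        rw [h2]
        exact P.mul_mem hyP h1
      have hc2 : (y' : G) * s * (y' : G)⁻¹ * s⁻¹ ∈ sigmaCore M := by
        have h1 : (y' : G) * s * (y' : G)⁻¹ ∈ sigmaCore M :=
          (mem_normalizer_iff.mp (hSn y'.2) s).mp hs
        exact (sigmaCore M).mul_mem h1 ((sigmaCore M).inv_mem hs)
      have hc : (y' : G) * s * (y' : G)⁻¹ * s⁻¹ = 1 := by
        have : (y' : G) * s * (y' : G)⁻¹ * s⁻¹ ∈ P ⊓ sigmaCore M := ⟨hc1, hc2⟩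
        rw [hPS] at this
        exact Subgroup.mem_bot.mp this
      have h3 : (y' : G) * s * (y' : G)⁻¹ = s := mul_inv_eq_one.mp hc
      exact mul_inv_eq_iff_eq_mul.mp h3
    have hyord : orderOf (y' : G) = p := by
      rw [Subgroup.orderOf_coe]
      exact hy'ord
    have hco : (orderOf (y' : G)).Coprime (K.relIndex M) := by
      rw [hyord, Nat.Prime.coprime_iff_not_dvd hp]
      exact hKU.hall.2.2 p hp hpκ
    obtain ⟨g, hgM, hgK⟩ := Cfsg.Agent.Helper54.bg14p_hall_conj hsol hKM hKcop y'.2 hco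
    have hk1 : g * (y' : G) * g⁻¹ ≠ 1 := by
      intro h
      have hy1 : (y' : G) = 1 := by
        have h4 : (y' : G) = g⁻¹ * (g * (y' : G) * g⁻¹) * g := by group
        rw [h4, h]
        group
      rw [hy1, orderOf_one] at hyord
      exact hp.one_lt.ne hyord
    apply hnc _ hgK hk1
    intro s hs
    rw [mem_centralizer_iff]
    intro h hh
    rw [Set.mem_singleton_iff] at hh
    rw [hh]
    have hs' : g⁻¹ * s * g ∈ sigmaCore M := by
      have := (mem_normalizer_iff.mp (hSn (M.inv_mem hgM)) s).mp hs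
      simpa using this
    have h5 := hcent _ hs'
    have h6 : g * (y' : G) * g⁻¹ * s = g * ((y' : G) * (g⁻¹ * s * g)) * g⁻¹ := by group
    have h7 : s * (g * (y' : G) * g⁻¹) = g * ((g⁻¹ * s * g) * (y' : G)) * g⁻¹ := by group
    rw [h6, h7, h5]
  -- Step 2: elements of `M` of order prime to `|K|` lie in `M'`
  intro x hx
  obtain ⟨x', hx', rfl⟩ := hx
  have hxc := hcop x' hx'
  haveI hN : ((⁅M, M⁆ : Subgroup G).subgroupOf M).Normal :=
    Subgroup.normal_subgroupOf_of_le_normalizer hDn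
  obtain ⟨N, hNdef⟩ : ∃ N : Subgroup ↥M, N = (⁅M, M⁆ : Subgroup G).subgroupOf M := ⟨_, rfl⟩
  haveI hNn : N.Normal := hNdef ▸ hN
  have hf : Function.Surjective ((QuotientGroup.mk' N).comp (Subgroup.inclusion hKM)) := by
    intro q
    obtain ⟨m, rfl⟩ := QuotientGroup.mk_surjective q
    obtain ⟨u, hu, b, hb, hmub⟩ := hKU.compl.2.2.2 (m : G) m.2
    obtain ⟨k, hk, s, hs, rfl⟩ :=
      Cfsg.Agent.Helper22.exists_mul_of_mem_sup' (hKM.trans hSn) hb
    refine ⟨⟨k, hk⟩, ?_⟩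
    rw [MonoidHom.comp_apply, QuotientGroup.mk'_apply, QuotientGroup.eq, hNdef,
      Subgroup.mem_subgroupOf]
    have h1 : k⁻¹ * u * k ∈ ⁅M, M⁆ := by
      have := (mem_normalizer_iff.mp (hDn (M.inv_mem (hKM hk))) u).mp (hUD hu)
      simpa using this
    have h2 : (((Subgroup.inclusion hKM ⟨k, hk⟩)⁻¹ * m : ↥M) : G) = (k⁻¹ * u * k) * s := by
      rw [Subgroup.coe_mul, hmub]
      simp only [Subgroup.coe_inv, Subgroup.coe_inclusion]
      group
    rw [h2]
    exact Subgroup.mul_mem _ h1 (hSD hs)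
  have hdvd : Nat.card (↥M ⧸ N) ∣ Nat.card K := Subgroup.card_dvd_of_surjective _ hf
  have hq1 : (QuotientGroup.mk x' : ↥M ⧸ N) = 1 := by
    have h1 : orderOf (QuotientGroup.mk x' : ↥M ⧸ N) ∣ orderOf x' := by
      apply orderOf_dvd_of_pow_eq_one
      rw [← QuotientGroup.mk_pow, pow_orderOf_eq_one]
      rfl
    have h2 : orderOf (QuotientGroup.mk x' : ↥M ⧸ N) ∣ Nat.card K :=
      (_root_.orderOf_dvd_natCard _).trans hdvd
    have h3 : orderOf (QuotientGroup.mk x' : ↥M ⧸ N) ∣ 1 := by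
      have := Nat.dvd_gcd h1 h2
      rwa [Nat.Coprime.gcd_eq_one hxc] at this
    exact orderOf_eq_one_iff.mp (Nat.dvd_one.mp h3)
  have hxN : x' ∈ N := (QuotientGroup.eq_one_iff x').mp hq1
  rw [hNdef] at hxN
  exact Subgroup.mem_subgroupOf.mp hxN

end Cfsg.Agent.Helper2
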