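/-
helper2: piece SN2 of CALL BG17 (helper25; row S1381).
-/
import Cfsg.Agent.S1352
import Cfsg.Agent.S1364
import Cfsg.Agent.S1366
import Cfsg.Agent.S1368
import Cfsg.Agent.S1434

set_option autoImplicit false

namespace Cfsg.Agent.Helper2

open Cfsg Subgroup

universe u

variable {G : Type u} [Group G] [Finite G]

/-- SN2. `N_G(X) ≤ K K*` for nonempty `X ⊆ K K* \ (K ∪ K*)`. -/
theorem bg17_norm_le (hG : IsMinSimpleOddOrder G) {M K U : Subgroup G} (hM : IsCoatom M)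
    (hKU : IsSigmaDecomposition M K U) (hK1 : K ≠ ⊥) (X : Set G)
    (hX : X ⊆ (↑(K ⊔ (sigmaCore M ⊓ centralizer (K : Set G))) : Set G) \
      (↑K ∪ ↑(sigmaCore M ⊓ centralizer (K : Set G))))
    (hne : X.Nonempty) :
    normalizer X ≤ K ⊔ (sigmaCore M ⊓ centralizer (K : Set G)) := by
  classical
  obtain ⟨Mstar, ⟨hMstar, hKst, hKstH⟩, -⟩ := Cfsg.Agent.S1366.result hG M hM K U hKU hK1
  have h64 := Cfsg.Agent.S1364.result hG M hM K U hKU hK1
  have h68 := Cfsg.Agent.S1368.result hG M hM K U hKU hK1 Mstar hMstar hKst hKstH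
  have h34 := Cfsg.Agent.S1434.result hG M hM K U hKU hK1 Mstar hMstar hKst hKstH
  obtain ⟨Ks, hKs⟩ : ∃ Ks : Subgroup G, Ks = sigmaCore M ⊓ centralizer (K : Set G) := ⟨_, rfl⟩
  have hK' : sigmaCore Mstar ⊓ centralizer (Ks : Set G) = K := by
    rw [hKs]
    exact hKst.symm
  rw [← hKs] at hX h64 h68 h34 hKstH ⊢
  obtain ⟨Us, hUs⟩ := (Cfsg.Agent.S1352.result hG Mstar hMstar Ks h64.1 hKstH).1
  have hset : ((sigmaCore Mstar ⊓ centralizer (Ks : Set G)) : Set G) = (K : Set G) := by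
    rw [← hK']
    rfl
  have hKst' : Ks = sigmaCore M ⊓
      centralizer ((sigmaCore Mstar ⊓ centralizer (Ks : Set G)) : Set G) := by
    rw [hset]
    exact hKs
  have hKstH' : IsPiHallOf (kappa M) (sigmaCore Mstar ⊓ centralizer (Ks : Set G)) M := by
    rw [hK']
    exact hKU.hall
  have h34s := Cfsg.Agent.S1434.result hG Mstar hMstar Ks Us hUs h64.2.1 M hM hKst' hKstH'
  rw [hK'] at h34s
  intro g hg
  obtain ⟨z, hz⟩ := hne
  have hzZ := hX hz
  have hgz : g * z * g⁻¹ ∈ X := (mem_set_normalizer_iff.mp hg z).mp hz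
  have hgzZ := hX hgz
  have hZM : K ⊔ Ks ≤ M ⊓ Mstar := h68.1.ge
  have hgM : g ∈ M := by
    by_contra hgn
    have hgn' : g⁻¹ ∉ M := fun h => hgn (by simpa using M.inv_mem h)
    apply h34.2.2.2.1 g⁻¹ hgn' z hzZ
    refine ⟨g * z * g⁻¹, (hZM hgzZ.1).1, ?_⟩
    simp only [MulEquiv.coe_toMonoidHom, MulAut.conj_apply]
    group
  have hgMs : g ∈ Mstar := by
    by_contra hgn
    have hgn' : g⁻¹ ∉ Mstar := fun h => hgn (by simpa using Mstar.inv_mem h)
    have hzZ' : z ∈ (↑(Ks ⊔ K) : Set G) \ (↑Ks ∪ ↑K) := by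
      rw [sup_comm, Set.union_comm]
      exact hzZ
    apply h34s.2.2.2.1 g⁻¹ hgn' z hzZ'
    refine ⟨g * z * g⁻¹, (hZM hgzZ.1).2, ?_⟩
    simp only [MulEquiv.coe_toMonoidHom, MulAut.conj_apply]
    group
  exact h68.1.le ⟨hgM, hgMs⟩

end Cfsg.Agent.Helper2
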