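/-
helper2: CALL BG36 piece KD (double).
-/
import Mathlib
import Cfsg.Agent.S1366
import Cfsg.Agent.S1378
import Cfsg.Agent.Helper23.Trans

set_option autoImplicit false

namespace Cfsg.Agent.Helper2

open Cfsg Subgroup

universe u

variable {G : Type u} [Group G] [Finite G]

/-- PIECE KD: the partner `M*` of `M` (S1366) has `K ≤ M*_σ`, so `q ∈ σ(M*) ∩ σ(N)` and `N` is
conjugate to `M*` (S1378). -/
theorem bg36_partner (hG : IsMinSimpleOddOrder G) {M K U N : Subgroup G} (hM : IsCoatom M)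
    (hKU : IsSigmaDecomposition M K U) (hK1 : K ≠ ⊥) (hN : IsCoatom N) {q : ℕ}
    (hq : q ∈ sigma N) (hqK : q ∣ Nat.card K) :
    ∃ (Ms : Subgroup G) (g : G), IsCoatom Ms ∧
      K = sigmaCore Ms ⊓ centralizer ((sigmaCore M ⊓ centralizer (K : Set G) : Subgroup G) : Set G) ∧
      IsPiHallOf (kappa Ms) (sigmaCore M ⊓ centralizer (K : Set G)) Ms ∧
      N = Ms.map (MulAut.conj g).toMonoidHom := by
  obtain ⟨Ms, ⟨hMs, hKst, hKstH⟩, -⟩ := Cfsg.Agent.S1366.result hG M hM K U hKU hK1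
  have hKle : K ≤ sigmaCore Ms := by
    have h : K ≤ sigmaCore Ms ⊓
        centralizer ((sigmaCore M ⊓ centralizer (K : Set G) : Subgroup G) : Set G) := hKst.le
    exact h.trans inf_le_left
  have hqσ : q ∈ sigma Ms := by
    have h1 : Nat.card K ∣ Nat.card ↥(sigmaCore Ms) := Subgroup.card_dvd_of_le hKle
    exact Cfsg.Agent.Helper23.mem_of_dvd_card_piCoreOf (sigma Ms) Ms hq.1 (hqK.trans h1)
  obtain ⟨g, hg⟩ := (Cfsg.Agent.S1378.result hG).2 Ms N hMs hN ⟨q, hqσ, hq⟩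
  exact ⟨Ms, g, hMs, hKst, hKstH, hg⟩

end Cfsg.Agent.Helper2
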