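/-
helper2: CALL BG36 piece P3 (double).
-/
import Mathlib
import Cfsg.Agent.S1432

set_option autoImplicit false

namespace Cfsg.Agent.Helper2

open Cfsg Subgroup

universe u

variable {G : Type u} [Group G] [Finite G]

/-- PIECE P3: S1432 in `N` for `(g z g⁻¹, g a₁ g⁻¹)`: the alternative `C_G(g a₁ g⁻¹) ≤ N` would
give `g A g⁻¹ ≤ N`; so `p ∈ κ(N)`.  Also `z` does not centralize `A`. -/
theorem bg36_p_kappa (hG : IsMinSimpleOddOrder G) {N : Subgroup G} (hN : IsCoatom N) {p : ℕ}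
    (hp : p.Prime) (hpσN : p ∉ sigma N) {A : Subgroup G} (hAel : IsElementaryAbelian p A)
    {z g a₁ : G} (hz1 : z ≠ 1) (hgσ : g * z * g⁻¹ ∈ sigmaCore N)
    (hgC : centralizer ({g * z * g⁻¹} : Set G) ≤ N)
    (hnle : ¬ A.map (MulAut.conj g).toMonoidHom ≤ N)
    (ha₁ : a₁ ∈ A) (ha₁1 : a₁ ≠ 1) (hza₁ : z * a₁ = a₁ * z) :
    p ∈ kappa N ∧ ¬ ∀ a ∈ A, z * a = a * z := by
  have hcomm : ∀ a ∈ A, ∀ b ∈ A, a * b = b * a := fun a ha b hb =>
    congrArg Subtype.val (hAel.1.is_comm.comm ⟨a, ha⟩ ⟨b, hb⟩)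
  have hz'1 : g * z * g⁻¹ ≠ 1 := by
    intro h
    apply hz1
    have : z = g⁻¹ * (g * z * g⁻¹) * g := by group
    rw [this, h]; group
  have ha'1 : g * a₁ * g⁻¹ ≠ 1 := by
    intro h
    apply ha₁1
    have : a₁ = g⁻¹ * (g * a₁ * g⁻¹) * g := by group
    rw [this, h]; group
  have ha'c : g * a₁ * g⁻¹ ∈ centralizer ({g * z * g⁻¹} : Set G) := by
    rw [mem_centralizer_iff]
    intro h hh
    rw [Set.mem_singleton_iff] at hh
    rw [hh]
    calc g * z * g⁻¹ * (g * a₁ * g⁻¹) = g * (z * a₁) * g⁻¹ := by group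
      _ = g * (a₁ * z) * g⁻¹ := by rw [hza₁]
      _ = g * a₁ * g⁻¹ * (g * z * g⁻¹) := by group
  have ha'p : (g * a₁ * g⁻¹) ^ p = 1 := by
    have h1 : a₁ ^ p = 1 := hAel.2 a₁ ha₁
    have h2 : (g * a₁ * g⁻¹) ^ p = g * a₁ ^ p * g⁻¹ := conj_pow
    rw [h2, h1]; group
  have ha'o : orderOf (g * a₁ * g⁻¹) = p := by
    have h2 := orderOf_dvd_of_pow_eq_one ha'p
    rcases (Nat.dvd_prime hp).mp h2 with h3 | h3
    · exact absurd (orderOf_eq_one_iff.mp h3) ha'1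
    · exact h3
  have hmapc : ∀ b : G, (∀ a ∈ A, (g * a * g⁻¹) * b = b * (g * a * g⁻¹)) →
      centralizer ({b} : Set G) ≤ N → A.map (MulAut.conj g).toMonoidHom ≤ N := by
    intro b hb hC w hw
    obtain ⟨a, ha, rfl⟩ := Subgroup.mem_map.mp hw
    apply hC
    rw [mem_centralizer_iff]
    intro h hh
    rw [Set.mem_singleton_iff] at hh
    rw [hh]
    have := hb a ha
    simpa [MulAut.conj_apply] using this.symm
  constructor
  · have h32 := Cfsg.Agent.S1432.result hG N hN (g * z * g⁻¹) hgσ hz'1 (g * a₁ * g⁻¹)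
      (Subgroup.mem_inf.mpr ⟨hgC ha'c, ha'c⟩) ha'1
      (by
        intro s hs hsd
        rw [ha'o] at hsd
        rw [(Nat.prime_dvd_prime_iff_eq hs hp).mp hsd]
        exact hpσN)
    rcases h32 with ⟨hκ, -⟩ | ⟨-, -, hC, -⟩
    · exact hκ p hp (by rw [ha'o])
    · exfalso
      apply hnle
      refine hmapc (g * a₁ * g⁻¹) (fun a ha => ?_) hC
      calc g * a * g⁻¹ * (g * a₁ * g⁻¹) = g * (a * a₁) * g⁻¹ := by group
        _ = g * (a₁ * a) * g⁻¹ := by rw [hcomm a ha a₁ ha₁]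
        _ = g * a₁ * g⁻¹ * (g * a * g⁻¹) := by group
  · intro hall
    apply hnle
    refine hmapc (g * z * g⁻¹) (fun a ha => ?_) hgC
    calc g * a * g⁻¹ * (g * z * g⁻¹) = g * (a * z) * g⁻¹ := by group
      _ = g * (z * a) * g⁻¹ := by rw [hall a ha]
      _ = g * z * g⁻¹ * (g * a * g⁻¹) := by group

end Cfsg.Agent.Helper2
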