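/-
helper2: CALL BG36 piece T6 (double).
-/
import Mathlib
import Cfsg.Agent.Helper23.BG1210c
import Cfsg.Agent.Helper20.BG13P4
import Cfsg.Agent.S1403

set_option autoImplicit false

namespace Cfsg.Agent.Helper2

open Cfsg Subgroup

universe u

variable {G : Type u} [Group G] [Finite G]

/-- PIECE T6: `p ∈ τ₂(M)` gives an `E_{p²}` inside some complement `E` of `M_σ`. -/
theorem bg36_exists_A (hG : IsMinSimpleOddOrder G) {M : Subgroup G} (hM : IsCoatom M) {p : ℕ}
    (hp : p ∈ tau2 M) :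
    ∃ E A : Subgroup G, IsComplIn E (sigmaCore M) M ∧ A ≤ E ∧ IsElementaryAbelian p A ∧
      Nat.card A = p ^ 2 := by
  have hU : Cfsg.Agent.Helper22.BGUniq G :=
    fun K hK h1 h2 => Cfsg.Agent.S1403.result hG K hK h1 h2
  have hFp : Fact p.Prime := ⟨hp.1⟩
  obtain ⟨E, hE, -⟩ := Cfsg.Agent.Helper20.bg13_exists_compl_ge hG hU hM
    (K := (⊥ : Subgroup G)) bot_le (by rw [Subgroup.card_bot]; exact Nat.coprime_one_left _)
  obtain ⟨A, hAE, hAel, hAc⟩ := Cfsg.Agent.Helper23.bg1210_exists_elemAb_le hG hM hE hp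
  exact ⟨E, A, hE, hAE, hAel, hAc⟩

end Cfsg.Agent.Helper2
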