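/-
helper2: assembly of CALL BG36 (row S1436): B&G Theorem 14.4 consequences.
Pieces by the helpers named in the imports.
-/
import Mathlib
import Cfsg.Agent.S1350
import Cfsg.Agent.S1351
import Cfsg.Agent.S1352
import Cfsg.Agent.S1354
import Cfsg.Agent.S1366
import Cfsg.Agent.S1372
import Cfsg.Agent.S1374
import Cfsg.Agent.S1375
import Cfsg.Agent.S1378
import Cfsg.Agent.S1414
import Cfsg.Agent.S1417
import Cfsg.Agent.S1418
import Cfsg.Agent.S1425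
import Cfsg.Agent.S1426
import Cfsg.Agent.S1432
import Cfsg.Agent.S1434
import Cfsg.Agent.Helper73.BG144D
import Cfsg.Agent.Helper54.BG14T4
import Cfsg.Agent.Helper23.Trans
import Cfsg.Agent.Helper68.BG36H

import Cfsg.Agent.Helper8.BG36B1
import Cfsg.Agent.Helper8.BG36B2
import Cfsg.Agent.Helper10.BG36B3
import Cfsg.Agent.Helper2.BG36I3
import Cfsg.Agent.Helper10.BG36KA
import Cfsg.Agent.Helper10.BG36KB
import Cfsg.Agent.Helper61.BG36KC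
import Cfsg.Agent.Helper2.BG36KD
import Cfsg.Agent.Helper2.BG36KE0
import Cfsg.Agent.Helper33.BG36KE1
import Cfsg.Agent.Helper66.BG36KE2
import Cfsg.Agent.Helper47.BG36KE3
import Cfsg.Agent.Helper67.BG36P1
import Cfsg.Agent.Helper68.BG36P2
import Cfsg.Agent.Helper2.BG36P3
import Cfsg.Agent.Helper10.BG36T1
import Cfsg.Agent.Helper23.BG36T4
import Cfsg.Agent.Helper67.BG36T5
import Cfsg.Agent.Helper2.BG36T6
import Cfsg.Agent.Helper59.BG36T7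
set_option autoImplicit false

namespace Cfsg.Agent.Helper2

open Cfsg Subgroup

universe u

variable {G : Type u} [Group G] [Finite G]

/-! ## Assembly (helper2) -/

/-- T0: S1375 for the given `N`. -/
theorem bg36_t0 (hG : IsMinSimpleOddOrder G) {M N : Subgroup G} (hM : IsCoatom M) {x : G}
    (hx : x ∈ sigmaCore M) (hx1 : x ≠ 1) (hxM : ¬ centralizer ({x} : Set G) ≤ M)
    (hN : IsCoatom N) (hxN : centralizer ({x} : Set G) ≤ N) :
    IsComplIn (M ⊓ N) (sigmaCore N) N ∧ x ∉ sigmaCore N ∧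
      (∀ K' U' : Subgroup G, IsSigmaDecomposition N K' U' → x ∈ U' ⊔ sigmaCore N) ∧
      ∀ L : Subgroup G, IsCoatom L → centralizer ({x} : Set G) ≤ L → L = N := by
  obtain ⟨N₀, ⟨hN₀, hxN₀⟩, huniq, -, -, -, hcompl, hdec⟩ :=
    Cfsg.Agent.S1375.result hG M hM x hx hx1 hxM
  have hNN : N = N₀ := huniq N hN hxN
  subst hNN
  obtain ⟨⟨K', hK'⟩, hcyc⟩ := Cfsg.Agent.S1351.result hG N hN
  obtain ⟨⟨U', hKU'⟩, -⟩ := Cfsg.Agent.S1352.result hG N hN K' (hcyc K' hK') hK'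
  refine ⟨hcompl, (hdec K' U' hKU').2.2, fun K₁ U₁ h => ?_, huniq⟩
  exact ((hdec K₁ U₁ h).2.1).2

/-- Part (b). -/
theorem bg36_b (hG : IsMinSimpleOddOrder G) {M N : Subgroup G} (hM : IsCoatom M) {x : G}
    (hx : x ∈ sigmaCore M) (hx1 : x ≠ 1) (hxM : ¬ centralizer ({x} : Set G) ≤ M)
    (hN : IsCoatom N) (hxN : centralizer ({x} : Set G) ≤ N)
    (y : G) (N' : Subgroup G) (g : G) (hy : y ∈ sigmaCore M) (hy1 : y ≠ 1)
    (hyM : ¬ centralizer ({y} : Set G) ≤ M) (hN' : IsCoatom N')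
    (hyN' : centralizer ({y} : Set G) ≤ N') (hg : N'.map (MulAut.conj g).toMonoidHom = N) :
    ∃ m ∈ M, N'.map (MulAut.conj m).toMonoidHom = N := by
  obtain ⟨hc1, -, -, -⟩ := bg36_t0 hG hM hx hx1 hxM hN hxN
  obtain ⟨hc2, -, -, -⟩ := bg36_t0 hG hM hy hy1 hyM hN' hyN'
  have hc3 := Cfsg.Agent.Helper8.bg36_conj_compl hg hc2
  obtain ⟨n, hn, hE⟩ := Cfsg.Agent.Helper8.bg36_compl_conj hG hN hc3 hc1
  have hxMN : x ∈ M ⊓ N := ⟨Cfsg.Agent.Helper23.piCoreOf_le (sigma M) M hx, hxN (by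
    rw [mem_centralizer_iff]; intro h hh; rw [Set.mem_singleton_iff] at hh; rw [hh])⟩
  rw [← hE] at hxMN
  obtain ⟨w, hw, hwx⟩ := Subgroup.mem_map.mp hxMN
  obtain ⟨m₀, hm₀, hm₀w⟩ := Subgroup.mem_map.mp hw.1
  have hxmem : x ∈ M.map (MulAut.conj (n * g)).toMonoidHom := by
    refine Subgroup.mem_map.mpr ⟨m₀, hm₀, ?_⟩
    rw [← hwx, ← hm₀w]
    simp [MulAut.conj_apply, mul_assoc]
  obtain ⟨-, R, -, hRc, htr⟩ := Cfsg.Agent.S1374.result hG M hM x hx hx1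
  obtain ⟨r, ⟨hrR, hrM⟩, -⟩ := htr (n * g) hxmem
  exact Cfsg.Agent.Helper10.bg36_b_fin hG hM hg hn (hxN (hRc.2.1 hrR)) hrM

/-- Part (a), `κ(M) = ∅`. -/
theorem bg36_kappa_empty (hG : IsMinSimpleOddOrder G) {M N : Subgroup G} (hM : IsCoatom M)
    {x : G} (hx : x ∈ sigmaCore M) (hx1 : x ≠ 1) (hxM : ¬ centralizer ({x} : Set G) ≤ M)
    (hN : IsCoatom N) (hxN : centralizer ({x} : Set G) ≤ N) {q : ℕ} (hq : q ∈ sigma N)
    (hqM : q ∣ Nat.card M) : kappa M = ∅ := by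
  by_contra hne
  obtain ⟨K, U, hKU, hK1⟩ := Cfsg.Agent.Helper10.bg36_kU hG hM hne
  have hU : U = ⊥ := Cfsg.Agent.Helper10.bg36_U_bot hG hM hKU hK1 hx hx1 hxM
  have hqσ : q ∉ sigma M := Cfsg.Agent.Helper10.bg36_q_not_sigma hG hM hx hx1 hxM hN hxN hq
  have hqK : q ∣ Nat.card K := Cfsg.Agent.Helper61.bg36_q_dvd_K hG hM hKU hU hq.1 hqM hqσ
  obtain ⟨Ms, g, hMs, hKst, hKstH, hNg⟩ := Cfsg.Agent.Helper2.bg36_partner hG hM hKU hK1 hN hq hqK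
  obtain ⟨hx'Ms, hx'o, hx'dec⟩ := Cfsg.Agent.Helper47.bg36_conj_setup hG hM hx hx1 hxM hN hxN hMs hNg
  -- a decomposition of `M*` with `K₂ = K*`
  have hK2c : IsCyclic ↥(sigmaCore M ⊓ centralizer (K : Set G)) :=
    (Cfsg.Agent.S1351.result hG Ms hMs).2 _ hKstH
  obtain ⟨⟨U₂, hKU₂⟩, -⟩ := Cfsg.Agent.S1352.result hG Ms hMs _ hK2c hKstH
  have hx'mem := hx'dec _ U₂ hKU₂
  have ho1 : orderOf x ≠ 1 := fun h => hx1 (orderOf_eq_one_iff.mp h)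
  have hs : (orderOf x).minFac.Prime := Nat.minFac_prime ho1
  have hsx : (orderOf x).minFac ∣ orderOf x := Nat.minFac_dvd _
  have hsσ : (orderOf x).minFac ∈ sigma M := Cfsg.Agent.Helper2.bg36_sigma_elt hx hs hsx
  have hsκ : (orderOf x).minFac ∈ kappa Ms :=
    Cfsg.Agent.Helper33.bg36_primes_kappa hG hM hKU hK1 hMs hKst hKstH hx'Ms hs (hx'o ▸ hsx) hsσ
  exact Cfsg.Agent.Helper66.bg36_coprime_US hG hMs hKU₂ hx'mem hs (hx'o ▸ hsx) hsκ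

/-- Part (a), `τ₂(M) = ∅`. -/
theorem bg36_tau2_false (hG : IsMinSimpleOddOrder G) {M N : Subgroup G} (hM : IsCoatom M)
    {x : G} (hx : x ∈ sigmaCore M) (hx1 : x ≠ 1) (hxM : ¬ centralizer ({x} : Set G) ≤ M)
    (hN : IsCoatom N) (hxN : centralizer ({x} : Set G) ≤ N) (hκ : kappa M = ∅) {q : ℕ}
    (hq : q ∈ sigma N) (hqM : q ∣ Nat.card M) {p : ℕ} (hp : p ∈ tau2 M) : False := by
  -- σ(N) ∩ τ₂(M) = ∅
  have hστ : ∀ q' : ℕ, q' ∈ sigma N → q' ∣ Nat.card M → q' ∉ tau2 M := by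
    intro q' hq' hq'M
    have hq'σ : q' ∉ sigma M := Cfsg.Agent.Helper10.bg36_q_not_sigma hG hM hx hx1 hxM hN hxN hq'
    refine Cfsg.Agent.Helper67.bg36_step2 hG hM hq'σ (fun z hz hzq => ?_)
    obtain ⟨g, -, hg2⟩ := Cfsg.Agent.Helper67.bg36_conj_in hG hM hx hx1 hxM hN hxN hq' hq'M hzq
    exact Cfsg.Agent.Helper23.bg36_step1 hG hM hN hκ hq' hq'σ hz hzq hg2
  have hqσ : q ∉ sigma M := Cfsg.Agent.Helper10.bg36_q_not_sigma hG hM hx hx1 hxM hN hxN hq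
  have hpp : p.Prime := hp.1
  have hFp : Fact p.Prime := ⟨hpp⟩
  obtain ⟨E, A, hE, hAE, hAel, hAc⟩ := Cfsg.Agent.Helper2.bg36_exists_A hG hM hp
  have hEM : E ≤ M := hE.1
  have hAM : A ≤ M := hAE.trans hEM
  have hpM : p ∣ Nat.card M := by
    have h1 : Nat.card A ∣ Nat.card M := Subgroup.card_dvd_of_le hAM
    rw [hAc] at h1
    exact (dvd_pow_self p two_ne_zero).trans h1
  have hpσN : p ∉ sigma N := fun h => hστ p h hpM hp
  obtain ⟨z, hzE, hzq⟩ := Cfsg.Agent.Helper59.bg36_exists_z hG hM hE hq.1 hqM hqσ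
  have hzM : z ∈ M := hEM hzE
  have hz1 : z ≠ 1 := by
    intro h
    rw [h, orderOf_one] at hzq
    exact hq.1.one_lt.ne hzq
  obtain ⟨hnil, -, -, -, hstar, -⟩ := Cfsg.Agent.S1417.result hG M hM p hp A ⟨hAM, hAel, hAc⟩
  have hxN' : x ∈ N := hxN (by
    rw [mem_centralizer_iff]; intro h hh; rw [Set.mem_singleton_iff] at hh; rw [hh])
  have hNM : N ≠ M := fun h => hxM (h ▸ hxN)
  obtain ⟨p', Y, -, -, -, -, hYN, hYcomm⟩ :=
    Cfsg.Agent.Helper68.bg36h_comm_cent hG hM hx hx1 hxM hN hxN hnil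
  have hAY : ¬ A ≤ centralizer (Y : Set G) := by
    intro hAC
    have hAN : A ≤ N := (hAC.trans (Subgroup.centralizer_le_normalizer _)).trans hYN
    have hbot := hstar N hN hNM hAN
    have hmem : x ∈ sigmaCore M ⊓ N := Subgroup.mem_inf.mpr ⟨hx, hxN'⟩
    rw [hbot, mem_bot] at hmem
    exact hx1 hmem
  obtain ⟨⟨hEnorm, -⟩, -, -⟩ := Cfsg.Agent.S1418.result hG M hM E hE p hp A ⟨hAE, hAel, hAc⟩
  have hzn : z ∈ normalizer (A : Set G) := hEnorm hzE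
  have hcx : ∀ a ∈ A, z * a * z⁻¹ * a⁻¹ ∈ centralizer (Y : Set G) := fun a ha =>
    hYcomm E hE z hzE a (hAE ha)
  obtain ⟨a₁, ha₁A, ha₁1, hza₁⟩ := Cfsg.Agent.Helper2.bg36_kernel hAel hzn hcx hAY
  obtain ⟨g, hgσ, hgC⟩ := Cfsg.Agent.Helper67.bg36_conj_in hG hM hx hx1 hxM hN hxN hq hqM hzq
  have hnle := Cfsg.Agent.Helper68.bg36_not_le_conj hG hM hN hpp hpσN hq hqσ hAM hAel hAc hzM hz1 hgσ
  obtain ⟨hpκ, hzA⟩ := Cfsg.Agent.Helper2.bg36_p_kappa hG hN hpp hpσN hAel hz1 hgσ hgC hnle ha₁A ha₁1 hza₁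
  have hzA' : ∀ a ∈ A, z * a * z⁻¹ ∈ A := fun a ha => (mem_normalizer_iff.mp hzn a).mp ha
  exact hzA (Cfsg.Agent.Helper68.bg36h_hole hG hM hx hx1 hxM hN hxN hnil hE hpκ hAE hAel.2 hzE hzA')

/-- S1436. -/
theorem bg36_main (hG : IsMinSimpleOddOrder G) (M : Subgroup G) (hM : IsCoatom M) (x : G)
    (hx : x ∈ sigmaCore M) (hx1 : x ≠ 1) (hxM : ¬ centralizer ({x} : Set G) ≤ M)
    (N : Subgroup G) (hN : IsCoatom N) (hxN : centralizer ({x} : Set G) ≤ N) :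
    ((∃ p ∈ sigma N, p ∣ Nat.card M) → kappa M = ∅ ∧ tau2 M = ∅) ∧
      ∀ (y : G) (N' : Subgroup G) (g : G), y ∈ sigmaCore M → y ≠ 1 →
        ¬ centralizer ({y} : Set G) ≤ M → IsCoatom N' → centralizer ({y} : Set G) ≤ N' →
        N'.map (MulAut.conj g).toMonoidHom = N → ∃ m ∈ M, N'.map (MulAut.conj m).toMonoidHom = N := by
  refine ⟨?_, fun y N' g hy hy1 hyM hN' hyN' hg =>
    bg36_b hG hM hx hx1 hxM hN hxN y N' g hy hy1 hyM hN' hyN' hg⟩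
  rintro ⟨q, hq, hqM⟩
  have hκ : kappa M = ∅ := bg36_kappa_empty hG hM hx hx1 hxM hN hxN hq hqM
  refine ⟨hκ, ?_⟩
  ext p
  simp only [Set.mem_empty_iff_false, iff_false]
  intro hp
  exact bg36_tau2_false hG hM hx hx1 hxM hN hxN hκ hq hqM hp

end Cfsg.Agent.Helper2
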