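/-
helper2: piece D6a of CALL S1351D (helper1): `1` is not in a tilde set.
-/
import Cfsg.Agent.Helper1.BGSDefs

set_option autoImplicit false

namespace Cfsg.Agent.Helper2

open Cfsg Subgroup Cfsg.Agent.Helper1

universe u v

variable {G : Type u} [Group G]

/-- D6a: `1` is not in a tilde set. -/
theorem bgs_one_not_mem_tilde [Finite G] (hG : IsMinSimpleOddOrder G) {M : Subgroup G}
    (hM : IsCoatom M) : (1 : G) ∉ starTilde M := by
  rintro ⟨a, ⟨ha, ha1⟩, r, hr, y, hy⟩
  have ha1' : a ≠ 1 := fun h => ha1 (by simp [h])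
  have hcomm := Cfsg.Agent.Helper54.bg14t_supp_comm hG hM ha ha1' hr
  have hcop := Cfsg.Agent.Helper54.bg14t_supp_coprime hG hM ha ha1' hr
  have hmem := (Cfsg.Agent.Helper54.bg14t_mem_zpowers_mul hcomm hcop).1
  have har : a * r = 1 := by
    have h1 : y⁻¹ * 1 * y = a * r := by rw [hy]; group
    rw [← h1]; group
  rw [har, Subgroup.zpowers_one_eq_bot, Subgroup.mem_bot] at hmem
  exact ha1' hmem

end Cfsg.Agent.Helper2
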