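/-
helper2: piece D6b of CALL S1351D (helper1): `1` is not a conjugate of an element of `starHat`.
-/
import Cfsg.Agent.Helper1.BGSDefs

set_option autoImplicit false

namespace Cfsg.Agent.Helper2

open Cfsg Subgroup Cfsg.Agent.Helper1

universe u v

variable {G : Type u} [Group G]

/-- D6b: `1` is not a conjugate of an element of `starHat`. -/
theorem bgs_one_not_mem_conj {ι : Type v} (M : ι → Subgroup G) (W : Subgroup G) :
    (1 : G) ∉ starConj M W := by
  rintro ⟨y, w, ⟨-, j, k, -, ⟨p, hp, hpw⟩, -⟩, hy⟩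
  have hw : w = 1 := by
    have h1 : y⁻¹ * 1 * y = w := by rw [hy]; group
    rw [← h1]; group
  rw [hw, orderOf_one] at hpw
  exact hp.1.one_lt.ne' (Nat.dvd_one.mp hpw)

end Cfsg.Agent.Helper2
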