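import Cfsg.Agent.Helper2.PGroup
import Mathlib.Data.Nat.Choose.Dvd
import Mathlib.GroupTheory.Commutator.Basic
import Mathlib.GroupTheory.Subgroup.Centralizer

set_option autoImplicit false

namespace Cfsg.Agent.Helper2

open Subgroup
open scoped commutatorElement

/-- `[G', G] = 1` means `G' ≤ Z(G)`. -/
theorem commutator_le_center_of_comm_top_eq_bot {G : Type*} [Group G]
    (h : ⁅commutator G, (⊤ : Subgroup G)⁆ = ⊥) : commutator G ≤ center G := by
  rw [commutator_eq_bot_iff_le_centralizer, coe_top, centralizer_univ] at h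
  exact h

theorem commutatorElement_mem_center {G : Type*} [Group G] (hcl : commutator G ≤ center G)
    (a b : G) : ⁅a, b⁆ ∈ center G :=
  hcl (commutator_mem_commutator (mem_top a) (mem_top b))

/-- In a group of class at most two, `⁅a ^ n, b⁆ = ⁅a, b⁆ ^ n`. -/
theorem commutatorElement_pow_left_of_class_two {G : Type*} [Group G]
    (hcl : commutator G ≤ center G) (a b : G) (n : ℕ) : ⁅a ^ n, b⁆ = ⁅a, b⁆ ^ n := by
  apply commutatorElement_pow_left
  have := commutatorElement_mem_center hcl a b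
  rw [mem_center_iff] at this
  exact (this a).symm

/-- The power formula in a group of class at most two:
`(a * b) ^ n = a ^ n * b ^ n * ⁅b, a⁆ ^ (n.choose 2)`. -/
theorem mul_pow_of_class_two {G : Type*} [Group G] (hcl : commutator G ≤ center G) (a b : G)
    (n : ℕ) : (a * b) ^ n = a ^ n * b ^ n * ⁅b, a⁆ ^ (n.choose 2) := by
  have hc : ∀ x : G, x * ⁅b, a⁆ = ⁅b, a⁆ * x := fun x =>
    mem_center_iff.mp (commutatorElement_mem_center hcl b a) x
  have hck : ∀ (k : ℕ) (x : G), x * ⁅b, a⁆ ^ k = ⁅b, a⁆ ^ k * x := fun k x =>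
    mem_center_iff.mp (Subgroup.pow_mem _ (commutatorElement_mem_center hcl b a) k) x
  induction n with
  | zero => simp
  | succ n ih =>
    have h1 : b ^ n * a = ⁅b, a⁆ ^ n * a * b ^ n := by
      rw [← commutatorElement_pow_left_of_class_two hcl b a n, commutatorElement_def]
      group
    have h2 : (n + 1).choose 2 = n + n.choose 2 := by
      rw [Nat.choose_succ_succ, Nat.choose_one_right]
    have e0 : a ^ n * b ^ n * ⁅b, a⁆ ^ (n.choose 2) * (a * b) =
        a ^ n * (b ^ n * a) * b * ⁅b, a⁆ ^ (n.choose 2) := by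
      calc a ^ n * b ^ n * ⁅b, a⁆ ^ (n.choose 2) * (a * b)
          = a ^ n * b ^ n * (⁅b, a⁆ ^ (n.choose 2) * (a * b)) := by simp only [mul_assoc]
        _ = a ^ n * b ^ n * ((a * b) * ⁅b, a⁆ ^ (n.choose 2)) := by rw [hck (n.choose 2) (a * b)]
        _ = a ^ n * (b ^ n * a) * b * ⁅b, a⁆ ^ (n.choose 2) := by simp only [mul_assoc]
    have e1 : a ^ n * (⁅b, a⁆ ^ n * a * b ^ n) * b = ⁅b, a⁆ ^ n * (a ^ n * a * b ^ n * b) := by
      calc a ^ n * (⁅b, a⁆ ^ n * a * b ^ n) * b = (a ^ n * ⁅b, a⁆ ^ n) * (a * b ^ n * b) := by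
            simp only [mul_assoc]
        _ = (⁅b, a⁆ ^ n * a ^ n) * (a * b ^ n * b) := by rw [hck n (a ^ n)]
        _ = ⁅b, a⁆ ^ n * (a ^ n * a * b ^ n * b) := by simp only [mul_assoc]
    have e2 : a ^ n * a * b ^ n * b * (⁅b, a⁆ ^ n * ⁅b, a⁆ ^ (n.choose 2)) =
        ⁅b, a⁆ ^ n * (a ^ n * a * b ^ n * b) * ⁅b, a⁆ ^ (n.choose 2) := by
      rw [← mul_assoc, hck n (a ^ n * a * b ^ n * b)]
    calc (a * b) ^ (n + 1) = (a * b) ^ n * (a * b) := pow_succ _ _
      _ = a ^ n * b ^ n * ⁅b, a⁆ ^ (n.choose 2) * (a * b) := by rw [ih]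
      _ = a ^ n * (b ^ n * a) * b * ⁅b, a⁆ ^ (n.choose 2) := e0
      _ = a ^ n * (⁅b, a⁆ ^ n * a * b ^ n) * b * ⁅b, a⁆ ^ (n.choose 2) := by rw [h1]
      _ = a ^ n * a * b ^ n * b * (⁅b, a⁆ ^ n * ⁅b, a⁆ ^ (n.choose 2)) := by rw [e1, e2]
      _ = a ^ (n + 1) * b ^ (n + 1) * ⁅b, a⁆ ^ ((n + 1).choose 2) := by
        rw [h2, pow_succ a n, pow_succ b n, pow_add ⁅b, a⁆ n (n.choose 2)]; simp only [mul_assoc]

/-- For an odd prime `p`, in a group of class at most two with `⁅b, a⁆ ^ p = 1`: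
`(a * b) ^ p = a ^ p * b ^ p`. -/
theorem mul_pow_prime_of_class_two {G : Type*} [Group G] (hcl : commutator G ≤ center G)
    {p : ℕ} (hp : p.Prime) (hp2 : p ≠ 2) (a b : G) (hc : ⁅b, a⁆ ^ p = 1) :
    (a * b) ^ p = a ^ p * b ^ p := by
  rw [mul_pow_of_class_two hcl]
  have h2 : 2 < p := lt_of_le_of_ne hp.two_le (Ne.symm hp2)
  obtain ⟨m, hm⟩ := hp.dvd_choose_self (by norm_num) h2
  rw [hm, pow_mul, hc, one_pow, mul_one]

/-- For an odd prime `p`, in a group of class at most two the elements with `x ^ p = 1` form a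
subgroup: everything in their closure has `p`-th power `1`. -/
theorem pow_eq_one_of_mem_closure_of_class_two {G : Type*} [Group G]
    (hcl : commutator G ≤ center G) {p : ℕ} (hp : p.Prime) (hp2 : p ≠ 2) (g : G)
    (hg : g ∈ closure {x : G | x ^ p = 1}) : g ^ p = 1 := by
  induction hg using closure_induction with
  | mem x hx => exact hx
  | one => exact one_pow p
  | mul x y _ _ hx hy =>
    have hc : ⁅y, x⁆ ^ p = 1 := by
      rw [← commutatorElement_pow_left_of_class_two hcl, hy]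
      simp
    rw [mul_pow_prime_of_class_two hcl hp hp2 x y hc, hx, hy, mul_one]
  | inv x _ hx => rw [inv_pow, hx, inv_one]

end Cfsg.Agent.Helper2
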