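import Mathlib
import Cfsg.Agent.Helper87.MC3b

set_option autoImplicit false

/-! PIECE Z of CALL S5289 (helper87): in a `p`-group with an element whose centralizer has order
`p ^ 2` (`p ≥ 5`, order `p ^ n`, `n ≥ 5`) the third term of the upper central series is elementary
abelian of order `p ^ 3`. -/

namespace Cfsg.Agent.Helper2

open Cfsg.Agent.Helper87
open scoped commutatorElement IsMulCommutative

/-- Iterates of an endomorphism of a commutative group that is unipotent of length 3 on `a`. -/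
theorem mc3z_iter {A : Type*} [CommGroup A] (φ : A →* A) (a u v : A) (ha : φ a = u * a)
    (hu : φ u = v * u) (hv : φ v = v) (k : ℕ) :
    (φ^[k]) a = a * u ^ k * v ^ (k.choose 2) := by
  induction k with
  | zero => simp
  | succ k ih =>
    have hc : (k + 1).choose 2 = k + k.choose 2 := by
      rw [Nat.choose_succ_succ' k 1, Nat.choose_one_right]
    rw [Function.iterate_succ_apply', ih, map_mul, map_mul, map_pow, map_pow, ha, hu, hv, mul_pow,
      hc, pow_add v, pow_succ u k]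
    ac_rfl

theorem mc3z_ac {A : Type*} [CommGroup A] (a u v : A) (j c2 c3 : ℕ) :
    a ^ j * u ^ c2 * v ^ c3 * (a * u ^ j * v ^ c2) =
      a ^ j * a * (u ^ j * u ^ c2) * (v ^ c2 * v ^ c3) := by
  ac_rfl

/-- The power `(a x)^k` when the conjugates of `a` under `x` lie in a commutative normal subgroup
and `[x, [x, [x, a]]] = 1`. -/
theorem mc3z_pow {G : Type*} [Group G] (H : Subgroup G) [hH : H.Normal]
    (hcomm : ∀ a ∈ H, ∀ b ∈ H, a * b = b * a) (x a : G) (ha : a ∈ H)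
    (h3 : ⁅x, ⁅x, ⁅x, a⁆⁆⁆ = 1) (k : ℕ) :
    (a * x) ^ k = a ^ k * ⁅x, a⁆ ^ (k.choose 2) * ⁅x, ⁅x, a⁆⁆ ^ (k.choose 3) * x ^ k := by
  have hHc : IsMulCommutative H := ⟨⟨fun a b => Subtype.ext (hcomm a.1 a.2 b.1 b.2)⟩⟩
  have hmem : ∀ b ∈ H, ⁅x, b⁆ ∈ H := by
    intro b hb
    rw [commutatorElement_def]
    exact H.mul_mem (hH.conj_mem b hb x) (H.inv_mem hb)
  set φ : H →* H := (MulAut.conjNormal x : H ≃* H).toMonoidHom with hφ
  have hφv : ∀ b : H, ((φ b : H) : G) = x * b * x⁻¹ := fun b => MulAut.conjNormal_apply x b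
  set A : H := ⟨a, ha⟩ with hA
  set U : H := ⟨⁅x, a⁆, hmem a ha⟩ with hU
  set V : H := ⟨⁅x, ⁅x, a⁆⁆, hmem _ (hmem a ha)⟩ with hV
  have h1 : φ A = U * A := by
    apply Subtype.ext
    rw [hφv, Subgroup.coe_mul]
    show x * a * x⁻¹ = ⁅x, a⁆ * a
    rw [commutatorElement_def]; group
  have h2 : φ U = V * U := by
    apply Subtype.ext
    rw [hφv, Subgroup.coe_mul]
    show x * ⁅x, a⁆ * x⁻¹ = ⁅x, ⁅x, a⁆⁆ * ⁅x, a⁆
    rw [commutatorElement_def x ⁅x, a⁆]; group
  have h4 : φ V = V := by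
    apply Subtype.ext
    rw [hφv]
    show x * ⁅x, ⁅x, a⁆⁆ * x⁻¹ = ⁅x, ⁅x, a⁆⁆
    rw [commutatorElement_def x ⁅x, ⁅x, a⁆⁆] at h3
    exact mul_inv_eq_one.mp h3
  have hiter := mc3z_iter φ A U V h1 h2 h4
  have hconj : ∀ j : ℕ, (((φ^[j]) A : H) : G) = x ^ j * a * (x ^ j)⁻¹ := by
    intro j
    induction j with
    | zero => simp [hA]
    | succ j ih =>
      rw [Function.iterate_succ_apply', hφv, ih, pow_succ']
      group
  have main : ∀ j : ℕ, (a * x) ^ j =
      ((A ^ j * U ^ (j.choose 2) * V ^ (j.choose 3) : H) : G) * x ^ j := by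
    intro j
    induction j with
    | zero => simp
    | succ j ih =>
      have e1 : (a * x) ^ (j + 1) =
          ((A ^ j * U ^ (j.choose 2) * V ^ (j.choose 3) : H) : G) *
            (x ^ j * a * (x ^ j)⁻¹) * x ^ (j + 1) := by
        rw [pow_succ, ih, pow_succ]; group
      rw [e1, ← hconj j, hiter j, ← Subgroup.coe_mul]
      congr 2
      have hc2 : (j + 1).choose 2 = j + j.choose 2 := by
        rw [Nat.choose_succ_succ' j 1, Nat.choose_one_right]
      have hc3 : (j + 1).choose 3 = j.choose 2 + j.choose 3 := Nat.choose_succ_succ' j 2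
      rw [hc2, hc3, pow_add U, pow_add V, pow_succ A j]
      exact mc3z_ac A U V j _ _
  rw [main k]
  rfl

theorem mc3_Z3_elemAb {G : Type*} [Group G] {p n : ℕ} {x : G} (h : MC3 G p n x) (hp : 5 ≤ p)
    (hn : 5 ≤ n) :
    (∀ a ∈ Subgroup.upperCentralSeries G 3, ∀ b ∈ Subgroup.upperCentralSeries G 3, a * b = b * a) ∧
    (∀ a ∈ Subgroup.upperCentralSeries G 3, a ^ p = 1) ∧
    Nat.card (Subgroup.upperCentralSeries G 3) = p ^ 3 := by
  have hfin := h.fin
  have hpr := h.prime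
  have hnil := h.nilpotent
  have hcard3 : Nat.card (Subgroup.upperCentralSeries G 3) = p ^ 3 := h.card_Z (by omega)
  -- `Z_3` centralizes `Z_2`
  have hc32 : ∀ a ∈ Subgroup.upperCentralSeries G 3, ∀ z ∈ Subgroup.upperCentralSeries G 2,
      a * z = z * a := by
    intro a ha z hz
    have h1 := h.comm_mem_shift (i := 3) (j := 2) (by omega) (by omega) ha hz
    have e : 3 + 2 - n = 0 := by omega
    rw [e, Subgroup.upperCentralSeries_zero, Subgroup.mem_bot] at h1
    exact commutatorElement_eq_one_iff_mul_comm.mp h1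
  have h23 : Subgroup.upperCentralSeries G 2 ≤ Subgroup.upperCentralSeries G 3 :=
    Subgroup.upperCentralSeries_mono G (by omega)
  -- an element of height 3
  obtain ⟨m, hm, hm'⟩ := SetLike.exists_of_lt (mc3_upper_strict (G := G) 2 (h.Z_ne_top (by omega)))
  have hab : ∀ a ∈ Subgroup.upperCentralSeries G 3, ∀ b ∈ Subgroup.upperCentralSeries G 3,
      a * b = b * a := by
    intro a ha b hb
    obtain ⟨e, z, hz, rfl⟩ := h.step_decomp (k := 2) (by omega) hm hm' ha
    obtain ⟨f, z', hz', rfl⟩ := h.step_decomp (k := 2) (by omega) hm hm' hb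
    have hme : m ^ e ∈ Subgroup.upperCentralSeries G 3 := Subgroup.pow_mem _ hm e
    have hmf : m ^ f ∈ Subgroup.upperCentralSeries G 3 := Subgroup.pow_mem _ hm f
    have c1 : z * m ^ f = m ^ f * z := (hc32 _ hmf z hz).symm
    have c2 : z' * m ^ e = m ^ e * z' := (hc32 _ hme z' hz').symm
    have c3 : z * z' = z' * z := hc32 z (h23 hz) z' hz'
    have c4 : m ^ e * m ^ f = m ^ f * m ^ e := by rw [← pow_add, ← pow_add, add_comm]
    calc m ^ e * z * (m ^ f * z') = m ^ e * (z * m ^ f) * z' := by group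
      _ = m ^ e * (m ^ f * z) * z' := by rw [c1]
      _ = (m ^ e * m ^ f) * (z * z') := by group
      _ = (m ^ f * m ^ e) * (z' * z) := by rw [c4, c3]
      _ = m ^ f * (m ^ e * z') * z := by group
      _ = m ^ f * (z' * m ^ e) * z := by rw [c2]
      _ = m ^ f * z' * (m ^ e * z) := by group
  have hZ0 : ∀ g ∈ Subgroup.upperCentralSeries G 0, g = 1 := by
    intro g hg
    rwa [Subgroup.upperCentralSeries_zero, Subgroup.mem_bot] at hg
  have h3n : Subgroup.upperCentralSeries G 3 ≤ Subgroup.upperCentralSeries G (n - 2) :=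
    Subgroup.upperCentralSeries_mono G (by omega)
  have key : ∀ a ∈ Subgroup.upperCentralSeries G 3, ⁅x, ⁅x, ⁅x, a⁆⁆⁆ = 1 →
      a ^ p * ⁅x, a⁆ ^ (p.choose 2) * ⁅x, ⁅x, a⁆⁆ ^ (p.choose 3) = 1 := by
    intro a ha h3
    have h1 := h.mul_x_pow (h3n ha)
    rw [mc3z_pow (Subgroup.upperCentralSeries G 3) hab x a ha h3 p] at h1
    exact mul_eq_right.mp h1
  have hd2 : p ∣ p.choose 2 := hpr.dvd_choose_self (by norm_num) (by omega)
  have hd3 : p ∣ p.choose 3 := hpr.dvd_choose_self (by norm_num) (by omega)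
  have e1 : ∀ a ∈ Subgroup.upperCentralSeries G 1, a ^ p = 1 := by
    intro a ha
    have hu : ⁅x, a⁆ = 1 := hZ0 _ (MC3.comm_mem_succ' ha x)
    have h1 := key a (Subgroup.upperCentralSeries_mono G (by omega) ha) (by rw [hu]; simp)
    rw [hu] at h1
    simpa using h1
  have e2 : ∀ a ∈ Subgroup.upperCentralSeries G 2, a ^ p = 1 := by
    intro a ha
    have hu : ⁅x, a⁆ ∈ Subgroup.upperCentralSeries G 1 := MC3.comm_mem_succ' ha x
    have hv : ⁅x, ⁅x, a⁆⁆ = 1 := hZ0 _ (MC3.comm_mem_succ' hu x)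
    have h1 := key a (h23 ha) (by rw [hv]; simp)
    obtain ⟨c, hc⟩ := hd2
    rw [hv, hc, pow_mul, e1 _ hu] at h1
    simpa using h1
  have e3 : ∀ a ∈ Subgroup.upperCentralSeries G 3, a ^ p = 1 := by
    intro a ha
    have hu : ⁅x, a⁆ ∈ Subgroup.upperCentralSeries G 2 := MC3.comm_mem_succ' ha x
    have hv : ⁅x, ⁅x, a⁆⁆ ∈ Subgroup.upperCentralSeries G 1 := MC3.comm_mem_succ' hu x
    have hw : ⁅x, ⁅x, ⁅x, a⁆⁆⁆ = 1 := hZ0 _ (MC3.comm_mem_succ' hv x)
    have h1 := key a ha hw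
    obtain ⟨c, hc⟩ := hd2
    obtain ⟨d, hd⟩ := hd3
    rw [hc, hd, pow_mul, pow_mul, e2 _ hu, e1 _ hv] at h1
    simpa using h1
  exact ⟨hab, e3, hcard3⟩

end Cfsg.Agent.Helper2
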