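/-
helper2 (CALL SL2L, bridge to helper25's BG83): a nonabelian subgroup `P` of order `p³` has `P' = Z(P)`
of order `p`.
-/
import Mathlib

set_option autoImplicit false

namespace Cfsg.Agent.Helper2

open Subgroup

universe u

variable {Γ : Type u} [Group Γ] [Finite Γ]

/-- A subgroup `P` of order `p³` with `⁅P, P⁆ ≠ ⊥`: `⁅P, P⁆` has order `p`, is central in `P`, and
contains every central element of `P`. -/
theorem sl2l_p3_struct {p : ℕ} (hp : p.Prime) (P : Subgroup Γ) (hcard : Nat.card P = p ^ 3)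
    (hnab : ⁅P, P⁆ ≠ ⊥) :
    Nat.card ↥⁅P, P⁆ = p ∧ (∀ z ∈ ⁅P, P⁆, ∀ a ∈ P, z * a = a * z) ∧
      (∀ a ∈ P, (∀ b ∈ P, a * b = b * a) → a ∈ ⁅P, P⁆) := by
  haveI : Fact p.Prime := ⟨hp⟩
  have hPg : IsPGroup p P := IsPGroup.of_card hcard
  -- `P` is not commutative
  have hnc : ¬ ∀ a b : P, a * b = b * a := by
    intro h
    apply hnab
    rw [Subgroup.commutator_eq_bot_iff_le_centralizer]
    intro a ha
    rw [Subgroup.mem_centralizer_iff]
    intro b hb
    have := h ⟨b, hb⟩ ⟨a, ha⟩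
    exact congrArg Subtype.val this
  haveI : Nontrivial P := by
    rw [← Finite.one_lt_card_iff_nontrivial, hcard]
    exact Nat.one_lt_pow (by norm_num) hp.one_lt
  haveI : Nontrivial (Subgroup.center P) := hPg.center_nontrivial
  have hcZ1 : 1 < Nat.card (Subgroup.center P) := Finite.one_lt_card_iff_nontrivial.mpr inferInstance
  have hdvd : Nat.card (Subgroup.center P) ∣ p ^ 3 := hcard ▸ Subgroup.card_subgroup_dvd_card _
  obtain ⟨k, hk3, hk⟩ := (Nat.dvd_prime_pow hp).mp hdvd
  have hmul : Nat.card (P ⧸ Subgroup.center P) * Nat.card (Subgroup.center P) = p ^ 3 := by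
    rw [← hcard]; exact (Subgroup.card_eq_card_quotient_mul_card_subgroup _).symm
  have hk1 : k = 1 := by
    have hk0 : k ≠ 0 := by
      rintro rfl
      rw [hk] at hcZ1; simp at hcZ1
    have hk3' : k ≠ 3 := by
      rintro rfl
      apply hnc
      have htop : Subgroup.center P = ⊤ :=
        Subgroup.eq_top_of_card_eq _ (by rw [hk, hcard])
      intro a b
      have hb : b ∈ Subgroup.center P := by rw [htop]; trivial
      exact (Subgroup.mem_center_iff.mp hb a)
    have hk2 : k ≠ 2 := by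
      rintro rfl
      apply hnc
      have hq : Nat.card (P ⧸ Subgroup.center P) = p := by
        rw [hk] at hmul
        have h3 : p ^ 3 = p * p ^ 2 := by ring
        rw [h3] at hmul
        exact Nat.eq_of_mul_eq_mul_right (pow_pos hp.pos 2) hmul
      haveI : IsCyclic (P ⧸ Subgroup.center P) := isCyclic_of_prime_card hq
      intro a b
      exact commutative_of_cyclic_center_quotient (QuotientGroup.mk' (Subgroup.center P))
        (by rw [QuotientGroup.ker_mk']) a b
    omega
  subst hk1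
  rw [pow_one] at hk
  have hq : Nat.card (P ⧸ Subgroup.center P) = p ^ 2 := by
    rw [hk] at hmul
    have h3 : p ^ 3 = p ^ 2 * p := by ring
    rw [h3] at hmul
    exact Nat.eq_of_mul_eq_mul_right hp.pos hmul
  have hqc : ∀ a b : P ⧸ Subgroup.center P, a * b = b * a :=
    IsPGroup.commutative_of_card_eq_prime_sq hq
  -- commutators are central
  have hcc : ∀ a b : P, a * b * a⁻¹ * b⁻¹ ∈ Subgroup.center P := by
    intro a b
    rw [← QuotientGroup.eq_one_iff]
    have h1 : ((a * b * a⁻¹ * b⁻¹ : P) : P ⧸ Subgroup.center P) =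
        (a : P ⧸ Subgroup.center P) * b * (a : P ⧸ Subgroup.center P)⁻¹ *
          (b : P ⧸ Subgroup.center P)⁻¹ := rfl
    rw [h1, hqc a b]
    group
  -- the centre as a subgroup of `Γ`
  set Zc : Subgroup Γ := (Subgroup.center P).map P.subtype with hZcdef
  have hZcc : Nat.card Zc = p := by
    rw [← hk]
    exact Nat.card_congr
      ((Subgroup.center P).equivMapOfInjective _ P.subtype_injective).symm.toEquiv
  have hle : ⁅P, P⁆ ≤ Zc := by
    rw [Subgroup.commutator_le]
    intro a ha b hb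
    refine Subgroup.mem_map.mpr ⟨⟨a, ha⟩ * ⟨b, hb⟩ * ⟨a, ha⟩⁻¹ * ⟨b, hb⟩⁻¹, hcc ⟨a, ha⟩ ⟨b, hb⟩, ?_⟩
    simp [commutatorElement_def]
  have hcard' : Nat.card ↥⁅P, P⁆ = p := by
    have h1 : Nat.card ↥⁅P, P⁆ ∣ p := hZcc ▸ Subgroup.card_dvd_of_le hle
    rcases (Nat.dvd_prime hp).mp h1 with h2 | h2
    · exact absurd (Subgroup.eq_bot_of_card_eq _ h2) hnab
    · exact h2
  have heq : ⁅P, P⁆ = Zc :=
    Subgroup.eq_of_le_of_card_ge hle (by rw [hcard', hZcc])
  refine ⟨hcard', ?_, ?_⟩
  · intro z hz a ha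
    rw [heq] at hz
    obtain ⟨c, hc, rfl⟩ := Subgroup.mem_map.mp hz
    have := Subgroup.mem_center_iff.mp hc ⟨a, ha⟩
    exact (congrArg Subtype.val this).symm
  · intro a ha hcen
    rw [heq]
    refine Subgroup.mem_map.mpr ⟨⟨a, ha⟩, ?_, rfl⟩
    rw [Subgroup.mem_center_iff]
    intro g
    exact Subtype.ext (hcen g g.2).symm

end Cfsg.Agent.Helper2
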