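/-
helper2 (CALL SL2L): bridge to helper25's CALL BG83 (row S1383): the statement of `bg83_sl2` verbatim,
from `sl2l_main` and the `p³` structure lemma.
-/
import Mathlib

import Cfsg.Agent.Helper2.SL2LMain
import Cfsg.Agent.Helper2.SL2LP3
set_option autoImplicit false

namespace Cfsg.Agent.Helper2

open Subgroup

universe u

variable {Γ : Type u} [Group Γ] [Finite Γ]

/-- A cyclic group `K` of odd order prime to `p` normalizing a nonabelian `P` of order `p³`, with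
`C_P(k) = P'` for every `k ≠ 1` of `K`, has order dividing `p - 1` or `p + 1`. -/
theorem sl2l_bridge (p : ℕ) [Fact p.Prime] (hp2 : p ≠ 2) (P K : Subgroup Γ)
    (hcard : Nat.card ↥P = p ^ 3) (hnab : ⁅P, P⁆ ≠ ⊥) (hK : IsCyclic ↥K)
    (hKP : K ≤ normalizer (P : Set Γ)) (hodd : Odd (Nat.card K)) (hcop : (Nat.card K).Coprime p)
    (hfpf : ∀ k ∈ K, k ≠ 1 → P ⊓ centralizer ({k} : Set Γ) = ⁅P, P⁆) :
    Nat.card K ∣ p - 1 ∨ Nat.card K ∣ p + 1 := by
  have hp : p.Prime := Fact.out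
  obtain ⟨hZc, hZcen, hZeq⟩ := sl2l_p3_struct hp P hcard hnab
  have hZP : ⁅P, P⁆ ≤ P := by
    rw [Subgroup.commutator_le]
    intro a ha b hb
    rw [commutatorElement_def]
    exact P.mul_mem (P.mul_mem (P.mul_mem ha hb) (P.inv_mem ha)) (P.inv_mem hb)
  refine sl2l_main hp hcard hZP hZc hZcen hZeq ?_ ?_ hodd hcop ?_ ?_
  · intro k hk a ha
    exact ((Subgroup.mem_normalizer_iff.mp (hKP hk)) a).mp ha
  · intro k hk k' hk'
    obtain ⟨g, hg⟩ := hK.exists_generator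
    obtain ⟨i, hi⟩ := Subgroup.mem_zpowers_iff.mp (hg ⟨k, hk⟩)
    obtain ⟨j, hj⟩ := Subgroup.mem_zpowers_iff.mp (hg ⟨k', hk'⟩)
    have h1 : (⟨k, hk⟩ : K) * ⟨k', hk'⟩ = ⟨k', hk'⟩ * ⟨k, hk⟩ := by
      rw [← hi, ← hj]; exact zpow_mul_comm g i j
    exact congrArg Subtype.val h1
  · intro k hk hk1 a ha hka
    have h0 : a ∈ centralizer ({k} : Set Γ) := by
      rw [Subgroup.mem_centralizer_iff]
      intro h hh
      rw [Set.mem_singleton_iff] at hh
      subst hh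
      exact hka
    have h1 : a ∈ P ⊓ centralizer ({k} : Set Γ) := Subgroup.mem_inf.mpr ⟨ha, h0⟩
    rwa [hfpf k hk hk1] at h1
  · intro k hk z hz
    by_cases hk1 : k = 1
    · rw [hk1, one_mul, mul_one]
    · rw [← hfpf k hk hk1] at hz
      exact (Subgroup.mem_centralizer_iff.mp (Subgroup.mem_inf.mp hz).2) k rfl

end Cfsg.Agent.Helper2
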